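import Mathlib

/-!
# Brauer–Reynolds, piece PY: the analytic core

A Cauchy–Schwarz equality argument on an abstract "table" `th : ι → κ → ℂ`.
-/

set_option autoImplicit false

namespace Cfsg.Agent.Lib.Helper79.BRPYCore

open scoped ComplexConjugate

theorem core {ι κ : Type*} (Yf : Finset ι) (Pf : Finset κ) (th : ι → κ → ℂ)
    (R : κ → ℝ) (hR : ∀ z ∈ Pf, 0 ≤ R z)
    (rel : κ → κ → Prop) [DecidableRel rel]
    (e t : ℕ) (he : 0 < e) (εc : ℂ) (hε : εc = 1 ∨ εc = -1)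
    (hY : Yf.card = t) (hP : Pf.card = e * t)
    (hcl : ∀ z ∈ Pf, (Pf.filter (rel z)).card = e)
    (F1 : ∀ z ∈ Pf, ∑ θ ∈ Yf, th θ z = -εc)
    (F2 : ∀ z ∈ Pf, ∑ θ ∈ Yf, th θ z * conj (th θ z) + (R z : ℂ) = ((e : ℂ) * t + 1) - e)
    (F3 : ∀ z ∈ Pf, ∀ z' ∈ Pf, ¬ rel z z' → ∑ θ ∈ Yf, th θ z * conj (th θ z') = -(e : ℂ))
    (F4 : ∀ z ∈ Pf, ∀ z' ∈ Pf, rel z z' → ∀ θ ∈ Yf, th θ z' = th θ z) :
    (∀ z ∈ Pf, R z = 0) ∧ (∀ θ ∈ Yf, ∑ z ∈ Pf, th θ z = -εc * e) := by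
  classical
  have hεsq : εc * εc = 1 := by rcases hε with h | h <;> rw [h] <;> ring
  have hεconj : conj εc = εc := by rcases hε with h | h <;> rw [h] <;> simp
  obtain ⟨m, hm⟩ : ∃ m : ℂ, m = -εc * e := ⟨_, rfl⟩
  have hmconj : conj m = m := by
    rw [hm, map_mul, map_neg, hεconj, Complex.conj_natCast]
  obtain ⟨s, hs⟩ : ∃ s : ι → ℂ, s = fun θ => ∑ z ∈ Pf, th θ z := ⟨_, rfl⟩
  -- Step 1
  have h1 : ∑ θ ∈ Yf, s θ = ((e : ℂ) * t) * (-εc) := by
    rw [hs]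
    show ∑ θ ∈ Yf, ∑ z ∈ Pf, th θ z = _
    rw [Finset.sum_comm, Finset.sum_congr rfl F1, Finset.sum_const, hP]
    simp
  -- Step 3
  have h3 : ∀ z ∈ Pf, ∑ z' ∈ Pf, ∑ θ ∈ Yf, th θ z * conj (th θ z') =
      (e : ℂ) - e * (R z : ℂ) := by
    intro z hz
    rw [← Finset.sum_filter_add_sum_filter_not Pf (rel z)]
    have ha : ∑ z' ∈ Pf.filter (rel z), ∑ θ ∈ Yf, th θ z * conj (th θ z') =
        (e : ℂ) * (((e : ℂ) * t + 1) - e - (R z : ℂ)) := by
      have : ∀ z' ∈ Pf.filter (rel z), ∑ θ ∈ Yf, th θ z * conj (th θ z') =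
          ((e : ℂ) * t + 1) - e - (R z : ℂ) := by
        intro z' hz'
        rw [Finset.mem_filter] at hz'
        rw [← F2 z hz, add_sub_cancel_right]
        refine Finset.sum_congr rfl fun θ hθ => ?_
        rw [F4 z hz z' hz'.1 hz'.2 θ hθ]
      rw [Finset.sum_congr rfl this, Finset.sum_const, hcl z hz, nsmul_eq_mul]
    have hb : ∑ z' ∈ Pf.filter (fun z' => ¬ rel z z'), ∑ θ ∈ Yf, th θ z * conj (th θ z') =
        ((e : ℂ) * t - e) * (-(e : ℂ)) := by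
      have : ∀ z' ∈ Pf.filter (fun z' => ¬ rel z z'), ∑ θ ∈ Yf, th θ z * conj (th θ z') =
          -(e : ℂ) := by
        intro z' hz'
        rw [Finset.mem_filter] at hz'
        exact F3 z hz z' hz'.1 hz'.2
      rw [Finset.sum_congr rfl this, Finset.sum_const, nsmul_eq_mul]
      congr 1
      have hc := Finset.card_filter_add_card_filter_not (s := Pf) (rel z)
      rw [hcl z hz, hP] at hc
      have hc' : ((e : ℕ) : ℂ) + ((Pf.filter (fun z' => ¬ rel z z')).card : ℂ) = (e : ℂ) * t := by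
        exact_mod_cast hc
      linear_combination hc'
    rw [ha, hb]
    ring
  -- Step 2 + 4
  have h4 : ∑ θ ∈ Yf, s θ * conj (s θ) = ((e : ℂ) * t) * e - e * ((∑ z ∈ Pf, R z : ℝ) : ℂ) := by
    have hexp : ∀ θ, s θ * conj (s θ) = ∑ z ∈ Pf, ∑ z' ∈ Pf, th θ z * conj (th θ z') := by
      intro θ
      rw [hs]
      show (∑ z ∈ Pf, th θ z) * conj (∑ z ∈ Pf, th θ z) = _
      rw [map_sum, Finset.sum_mul_sum]
    rw [Finset.sum_congr rfl fun θ _ => hexp θ, Finset.sum_comm]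
    have : ∀ z ∈ Pf, ∑ θ ∈ Yf, ∑ z' ∈ Pf, th θ z * conj (th θ z') =
        (e : ℂ) - e * (R z : ℂ) := by
      intro z hz
      rw [Finset.sum_comm]
      exact h3 z hz
    rw [Finset.sum_congr rfl this, Finset.sum_sub_distrib, Finset.sum_const, hP, ← Finset.mul_sum]
    push_cast
    ring
  -- Step 5
  have h5 : ∑ θ ∈ Yf, (s θ - m) * conj (s θ - m) = -(e : ℂ) * ((∑ z ∈ Pf, R z : ℝ) : ℂ) := by
    have hexp : ∀ θ, (s θ - m) * conj (s θ - m) =
        s θ * conj (s θ) - m * conj (s θ) - m * s θ + m * m := by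
      intro θ
      rw [map_sub, hmconj]
      ring
    rw [Finset.sum_congr rfl fun θ _ => hexp θ, Finset.sum_add_distrib, Finset.sum_sub_distrib,
      Finset.sum_sub_distrib, ← Finset.mul_sum, ← Finset.mul_sum, ← map_sum, h1, h4,
      Finset.sum_const, hY, nsmul_eq_mul, map_mul, map_mul, map_neg, hεconj, Complex.conj_natCast,
      Complex.conj_natCast, hm]
    linear_combination ((e : ℂ) * e * t - 2 * e * e * t) * hεsq
  -- Step 6
  have h6 : ∀ θ, (s θ - m) * conj (s θ - m) = ((Complex.normSq (s θ - m) : ℝ) : ℂ) :=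
    fun θ => Complex.mul_conj _
  rw [Finset.sum_congr rfl fun θ _ => h6 θ, ← Complex.ofReal_sum] at h5
  have h7 : ∑ θ ∈ Yf, Complex.normSq (s θ - m) = -(e : ℝ) * ∑ z ∈ Pf, R z := by
    apply Complex.ofReal_injective
    rw [h5]
    push_cast
    ring
  have hA : 0 ≤ ∑ θ ∈ Yf, Complex.normSq (s θ - m) :=
    Finset.sum_nonneg fun θ _ => Complex.normSq_nonneg _
  have hB : 0 ≤ ∑ z ∈ Pf, R z := Finset.sum_nonneg hR
  have he' : (0 : ℝ) < e := by exact_mod_cast he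
  have hB0 : ∑ z ∈ Pf, R z = 0 := by nlinarith
  have hA0 : ∑ θ ∈ Yf, Complex.normSq (s θ - m) = 0 := by rw [h7, hB0, mul_zero]
  refine ⟨fun z hz => (Finset.sum_eq_zero_iff_of_nonneg hR).mp hB0 z hz, fun θ hθ => ?_⟩
  have := (Finset.sum_eq_zero_iff_of_nonneg fun θ _ => Complex.normSq_nonneg _).mp hA0 θ hθ
  rw [Complex.normSq_eq_zero, sub_eq_zero] at this
  rw [← hm, ← this, hs]

end Cfsg.Agent.Lib.Helper79.BRPYCore
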