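import Mathlib
import Cfsg.Agent.Lib.Helper16.BRStmt
import Cfsg.Agent.Lib.CT.ColumnId
import Cfsg.Agent.Lib.CT.SectionOrth
import Cfsg.Agent.Lib.CT.WBO
import Cfsg.Agent.Lib.CT.Orth
import Cfsg.Agent.Lib.CT.Wedderburn
import Cfsg.Agent.Lib.Helper49.ThIndex
import Cfsg.Agent.Lib.Helper79.BRPYCore

/-!
# Brauer–Reynolds, piece PY: values of the exceptional characters on `P \ {1}`
-/

set_option autoImplicit false

namespace Cfsg.Agent.Lib.Helper79.BRPY

open Cfsg Cfsg.Agent.Lib.CT.ThirdMain Cfsg.Agent.Lib.Helper16.BRSpec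
open scoped ComplexConjugate

universe u
variable {G : Type u} [Group G]

theorem orderOf_eq [Finite G] (p : ℕ) [Fact p.Prime] (P : Sylow p G)
    (hP : Nat.card (P : Subgroup G) = p) (z : G) (hz : z ∈ (P : Subgroup G)) (hz1 : z ≠ 1) :
    orderOf z = p := by
  have hdvd : orderOf z ∣ p := by
    have := Subgroup.orderOf_dvd_natCard (P : Subgroup G) hz
    rwa [hP] at this
  rcases (Nat.dvd_prime Fact.out).mp hdvd with h | h
  · exact absurd (orderOf_eq_one_iff.mp h) hz1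
  · exact h

theorem zpowers_eq [Finite G] (p : ℕ) [Fact p.Prime] (P : Sylow p G)
    (hP : Nat.card (P : Subgroup G) = p) (z : G) (hz : z ∈ (P : Subgroup G)) (hz1 : z ≠ 1) :
    Subgroup.zpowers z = (P : Subgroup G) := by
  have hle : Subgroup.zpowers z ≤ (P : Subgroup G) := by
    rw [Subgroup.zpowers_le]; exact hz
  apply Subgroup.eq_of_le_of_card_ge hle
  rw [hP, Nat.card_zpowers, orderOf_eq p P hP z hz hz1]

theorem centralizer_eq [Finite G] (p : ℕ) [Fact p.Prime] (P : Sylow p G)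
    (hP : Nat.card (P : Subgroup G) = p) (z : G) (hz : z ∈ (P : Subgroup G)) (hz1 : z ≠ 1) :
    Subgroup.centralizer ({z} : Set G) = Subgroup.centralizer ((P : Subgroup G) : Set G) := by
  apply le_antisymm
  · intro g hg
    rw [Subgroup.mem_centralizer_iff]
    intro h hh
    have hh' : h ∈ Subgroup.zpowers z := by rw [zpowers_eq p P hP z hz hz1]; exact hh
    obtain ⟨k, rfl⟩ := Subgroup.mem_zpowers_iff.mp hh'
    have hc : Commute z g := Subgroup.mem_centralizer_iff.mp hg z rfl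
    exact (hc.zpow_left k).eq
  · exact Subgroup.centralizer_le (Set.singleton_subset_iff.mpr hz)

/-- An element conjugating a generator of `P` into `P` normalizes `P`. -/
theorem mem_normalizer [Finite G] (p : ℕ) [Fact p.Prime] (P : Sylow p G)
    (hP : Nat.card (P : Subgroup G) = p) (z : G) (hz : z ∈ (P : Subgroup G)) (hz1 : z ≠ 1)
    (g : G) (hg : g * z * g⁻¹ ∈ (P : Subgroup G)) :
    g ∈ Subgroup.normalizer ((P : Subgroup G) : Set G) := by
  have hz1' : g * z * g⁻¹ ≠ 1 := by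
    intro h
    apply hz1
    have : z = g⁻¹ * (g * z * g⁻¹) * g := by group
    rw [this, h]; group
  have hpow : ∀ k : ℤ, g * z ^ k * g⁻¹ = (g * z * g⁻¹) ^ k := by
    intro k
    rw [conj_zpow]
  rw [Subgroup.mem_normalizer_iff]
  intro h
  constructor
  · intro hh
    have hh' : h ∈ Subgroup.zpowers z := by rw [zpowers_eq p P hP z hz hz1]; exact hh
    obtain ⟨k, rfl⟩ := Subgroup.mem_zpowers_iff.mp hh'
    rw [hpow]
    exact Subgroup.zpow_mem _ hg k
  · intro hh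
    have hh' : g * h * g⁻¹ ∈ Subgroup.zpowers (g * z * g⁻¹) := by
      rw [zpowers_eq p P hP _ hg hz1']; exact hh
    obtain ⟨k, hk⟩ := Subgroup.mem_zpowers_iff.mp hh'
    rw [← hpow] at hk
    have : h = z ^ k := by
      have h2 : g⁻¹ * (g * z ^ k * g⁻¹) * g = g⁻¹ * (g * h * g⁻¹) * g := by rw [hk]
      have h3 : g⁻¹ * (g * z ^ k * g⁻¹) * g = z ^ k := by group
      have h4 : g⁻¹ * (g * h * g⁻¹) * g = h := by group
      rw [h3, h4] at h2
      exact h2.symm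
    rw [this]
    exact Subgroup.zpow_mem _ hz k

/-- Each `G`-class meets `P \ {1}` in exactly `e` elements. -/
theorem card_class [Finite G] (p : ℕ) [Fact p.Prime] (P : Sylow p G)
    (hP : Nat.card (P : Subgroup G) = p)
    (hC : Subgroup.centralizer ((P : Subgroup G) : Set G) = (P : Subgroup G)) (e : ℕ)
    (hN : Nat.card (Subgroup.normalizer ((P : Subgroup G) : Set G)) = p * e)
    (z : G) (hz : z ∈ (P : Subgroup G)) (hz1 : z ≠ 1) :
    Nat.card {z' : G | z' ∈ (((P : Subgroup G) : Set G) \ {1}) ∧ IsConj z z'} = e := by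
  have hle : (P : Subgroup G) ≤ Subgroup.normalizer ((P : Subgroup G) : Set G) :=
    Subgroup.le_normalizer
  have key := Cfsg.Agent.Lib.Helper49.ThIndex.card_eq_orbit_mul
    (Subgroup.normalizer ((P : Subgroup G) : Set G))
    {z' : G | z' ∈ (((P : Subgroup G) : Set G) \ {1}) ∧ IsConj z z'} z ?_ ?_
  · have hinf : Subgroup.normalizer ((P : Subgroup G) : Set G) ⊓
        Subgroup.centralizer ({z} : Set G) = (P : Subgroup G) := by
      rw [centralizer_eq p P hP z hz hz1, hC]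
      exact inf_eq_right.mpr hle
    rw [hinf, hP, hN, mul_comm] at key
    have hp : 0 < p := (Fact.out : p.Prime).pos
    exact (Nat.eq_of_mul_eq_mul_right hp key).symm
  · intro g hg
    have hmem : g * z * g⁻¹ ∈ (P : Subgroup G) := (Subgroup.mem_normalizer_iff.mp hg z).mp hz
    refine ⟨⟨hmem, ?_⟩, isConj_iff.mpr ⟨g, rfl⟩⟩
    intro h
    apply hz1
    have h' : g * z * g⁻¹ = 1 := h
    have : z = g⁻¹ * (g * z * g⁻¹) * g := by group
    rw [this, h']; group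
  · rintro y ⟨⟨hyP, _⟩, hconj⟩
    obtain ⟨g, hg⟩ := isConj_iff.mp hconj
    refine ⟨g, mem_normalizer p P hP z hz hz1 g ?_, hg⟩
    rw [hg]; exact hyP

theorem fsum_eq {α : Type*} [Fintype α] (s : Set α) [DecidablePred (· ∈ s)]
    {A : Type*} [AddCommMonoid A] (f : α → A) :
    ∑ᶠ a ∈ s, f a = ∑ a ∈ Finset.univ.filter (· ∈ s), f a := by
  rw [Cfsg.Agent.Lib.CT.ColumnId.finsum_mem_eq_sum, Finset.sum_filter]

theorem card_filter_mem {α : Type*} [Fintype α] (s : Set α) [DecidablePred (· ∈ s)] :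
    (Finset.univ.filter (· ∈ s)).card = s.ncard := by
  rw [← Set.ncard_coe_finset]
  congr 1
  ext a
  simp

theorem main : Cfsg.Agent.Lib.Helper16.BRStmt.YValues.{u} := by
  intro G _ _ p _ M hM P hP hC e t hpe hN X Y hXY hdisj hXc hYc εX ε hε hX hYdeg hdeg
  classical
  have := Fintype.ofFinite G
  have := Cfsg.Agent.Lib.CT.Wedderburn.finite_irrCharacter G
  have := Fintype.ofFinite (IrrCharacter G)
  have hp : p.Prime := Fact.out
  have hB0 : IsPBlock M (principalBlock M G) := Cfsg.Agent.Lib.CT.ColumnId.isPBlock_principal M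
  have ht : 0 < t := by
    rcases Nat.eq_zero_or_pos t with h | h
    · rw [h, mul_zero, zero_add] at hpe
      exact absurd hpe hp.one_lt.ne'
    · exact h
  have he : 0 < e := by
    rcases Nat.eq_zero_or_pos e with h | h
    · rw [h, zero_mul, zero_add] at hpe
      exact absurd hpe hp.one_lt.ne'
    · exact h
  have hpc : (p : ℂ) = (e : ℂ) * t + 1 := by rw [hpe]; push_cast; ring
  obtain ⟨Xf, hXf⟩ : ∃ Xf : Finset (IrrCharacter G), Xf = Finset.univ.filter (· ∈ X) := ⟨_, rfl⟩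
  obtain ⟨Yf, hYf⟩ : ∃ Yf : Finset (IrrCharacter G), Yf = Finset.univ.filter (· ∈ Y) := ⟨_, rfl⟩
  obtain ⟨Cf, hCf⟩ : ∃ Cf : Finset (IrrCharacter G),
      Cf = Finset.univ.filter (· ∉ principalBlock M G) := ⟨_, rfl⟩
  obtain ⟨Pf, hPf⟩ : ∃ Pf : Finset G,
      Pf = Finset.univ.filter (· ∈ (((P : Subgroup G) : Set G) \ {1})) := ⟨_, rfl⟩
  have hXfc : Xf.card = e := by rw [hXf, card_filter_mem, hXc]
  have hYfc : Yf.card = t := by rw [hYf, card_filter_mem, hYc]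
  have hmemX : ∀ χ, χ ∈ Xf ↔ χ ∈ X := by intro χ; rw [hXf]; simp
  have hmemY : ∀ χ, χ ∈ Yf ↔ χ ∈ Y := by intro χ; rw [hYf]; simp
  have hmemC : ∀ χ, χ ∈ Cf ↔ χ ∉ principalBlock M G := by intro χ; rw [hCf]; simp
  have hmemP : ∀ z, z ∈ Pf ↔ z ∈ (P : Subgroup G) ∧ z ≠ 1 := by
    intro z
    rw [hPf, Finset.mem_filter]
    exact ⟨fun h => ⟨h.2.1, h.2.2⟩, fun h => ⟨Finset.mem_univ _, h.1, h.2⟩⟩
  have hPfc : Pf.card = e * t := by
    rw [hPf, card_filter_mem, Set.ncard_sdiff_singleton_of_mem (Subgroup.one_mem _),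
      ← Nat.card_coe_set_eq]
    have : Nat.card ((P : Subgroup G) : Set G) = p := hP
    rw [this, hpe]
    rfl
  have hdXY : Disjoint Xf Yf := by
    rw [Finset.disjoint_left]
    intro χ h1 h2
    exact Set.disjoint_left.mp hdisj ((hmemX χ).mp h1) ((hmemY χ).mp h2)
  have hfilt : Finset.univ.filter (· ∈ principalBlock M G) = Xf ∪ Yf := by
    ext χ
    rw [Finset.mem_union, hmemX, hmemY, hXY]
    simp
  have hsplit : ∀ f : IrrCharacter G → ℂ,
      ∑ᶠ χ ∈ principalBlock M G, f χ = ∑ χ ∈ Xf, f χ + ∑ χ ∈ Yf, f χ := by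
    intro f
    rw [fsum_eq, hfilt, Finset.sum_union hdXY]
  have htot : ∀ f : IrrCharacter G → ℂ,
      ∑ᶠ χ : IrrCharacter G, f χ = ∑ χ ∈ Xf, f χ + ∑ χ ∈ Yf, f χ + ∑ χ ∈ Cf, f χ := by
    intro f
    rw [finsum_eq_sum_of_fintype,
      ← Finset.sum_filter_add_sum_filter_not Finset.univ (· ∈ principalBlock M G), hfilt,
      Finset.sum_union hdXY, hCf]
  -- values on X
  have hXval : ∀ χ ∈ Xf, ∀ z ∈ Pf, (χ : G → ℂ) z = (εX χ : ℂ) := by
    intro χ hχ z hz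
    exact (hX χ ((hmemX χ).mp hχ)).2 z ((hmemP z).mp hz).1 ((hmemP z).mp hz).2
  have hXsq : ∀ χ ∈ Xf, (εX χ : ℂ) * (εX χ : ℂ) = 1 := by
    intro χ hχ
    rcases (hX χ ((hmemX χ).mp hχ)).1 with h | h <;> rw [h] <;> push_cast <;> ring
  have hXX : ∀ z ∈ Pf, ∀ z' ∈ Pf,
      ∑ χ ∈ Xf, (χ : G → ℂ) z * conj ((χ : G → ℂ) z') = (e : ℂ) := by
    intro z hz z' hz'
    have : ∀ χ ∈ Xf, (χ : G → ℂ) z * conj ((χ : G → ℂ) z') = 1 := by
      intro χ hχ
      rw [hXval χ hχ z hz, hXval χ hχ z' hz', map_intCast (starRingEnd ℂ), hXsq χ hχ]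
    rw [Finset.sum_congr rfl this, Finset.sum_const, hXfc, nsmul_eq_mul, mul_one]
  have hord : ∀ z ∈ Pf, orderOf z = p := fun z hz =>
    orderOf_eq p P hP z ((hmemP z).mp hz).1 ((hmemP z).mp hz).2
  have hεc : (ε : ℂ) = 1 ∨ (ε : ℂ) = -1 := by
    rcases hε with h | h <;> rw [h] <;> simp
  have hεconj : conj (ε : ℂ) = (ε : ℂ) := map_intCast (starRingEnd ℂ) ε
  -- F1
  have F1 : ∀ z ∈ Pf, ∑ θ ∈ Yf, (θ : G → ℂ) z = -(ε : ℂ) := by
    intro z hz
    have hYne : Yf.Nonempty := by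
      rw [← Finset.card_pos, hYfc]; exact ht
    obtain ⟨θ0, hθ0⟩ := hYne
    have hw := Cfsg.Agent.Lib.CT.WBO.weak_block_orthogonality p M hM _ hB0 1 z
      (by rw [orderOf_one]; exact hp.not_dvd_one) (by rw [hord z hz])
    rw [hsplit] at hw
    have hXs : ∑ χ ∈ Xf, (χ : G → ℂ) 1 * conj ((χ : G → ℂ) z) =
        (ε : ℂ) * (θ0 : G → ℂ) 1 := by
      rw [hdeg θ0 ((hmemY θ0).mp hθ0), fsum_eq, ← hXf]
      refine Finset.sum_congr rfl fun χ hχ => ?_
      rw [hXval χ hχ z hz, map_intCast (starRingEnd ℂ), mul_comm]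
    have hYs : ∑ θ ∈ Yf, (θ : G → ℂ) 1 * conj ((θ : G → ℂ) z) =
        (θ0 : G → ℂ) 1 * conj (∑ θ ∈ Yf, (θ : G → ℂ) z) := by
      rw [map_sum, Finset.mul_sum]
      refine Finset.sum_congr rfl fun θ hθ => ?_
      rw [hYdeg θ ((hmemY θ).mp hθ) θ0 ((hmemY θ0).mp hθ0)]
    rw [hXs, hYs] at hw
    have hne : (θ0 : G → ℂ) 1 ≠ 0 := Cfsg.Agent.Lib.CT.Wedderburn.irr_apply_one_ne_zero θ0.2
    have hc : conj (∑ θ ∈ Yf, (θ : G → ℂ) z) = -(ε : ℂ) := by
      have : (θ0 : G → ℂ) 1 * ((ε : ℂ) + conj (∑ θ ∈ Yf, (θ : G → ℂ) z)) = 0 := by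
        linear_combination hw
      rcases mul_eq_zero.mp this with h | h
      · exact absurd h hne
      · linear_combination h
    have := congrArg conj hc
    rw [Complex.conj_conj, map_neg, hεconj] at this
    exact this
  -- F2
  obtain ⟨R, hRdef⟩ : ∃ R : G → ℝ, R = fun z => ∑ χ ∈ Cf, Complex.normSq ((χ : G → ℂ) z) :=
    ⟨_, rfl⟩
  have hRc : ∀ z, (R z : ℂ) = ∑ χ ∈ Cf, (χ : G → ℂ) z * conj ((χ : G → ℂ) z) := by
    intro z
    rw [hRdef]
    show ((∑ χ ∈ Cf, Complex.normSq ((χ : G → ℂ) z) : ℝ) : ℂ) = _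
    rw [Complex.ofReal_sum]
    exact Finset.sum_congr rfl fun χ _ => (Complex.mul_conj _).symm
  have hRnn : ∀ z ∈ Pf, 0 ≤ R z := by
    intro z _
    rw [hRdef]
    exact Finset.sum_nonneg fun χ _ => Complex.normSq_nonneg _
  have F2 : ∀ z ∈ Pf, ∑ θ ∈ Yf, (θ : G → ℂ) z * conj ((θ : G → ℂ) z) + (R z : ℂ) =
      ((e : ℂ) * t + 1) - e := by
    intro z hz
    have h2 := Cfsg.Agent.Lib.CT.Orth.second_orthogonality_of_isConj z z (IsConj.refl z)
    rw [htot, centralizer_eq p P hP z ((hmemP z).mp hz).1 ((hmemP z).mp hz).2, hC, hP,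
      hXX z hz z hz, ← hRc, hpc] at h2
    linear_combination h2
  -- F3
  have F3 : ∀ z ∈ Pf, ∀ z' ∈ Pf, ¬ IsConj z z' →
      ∑ θ ∈ Yf, (θ : G → ℂ) z * conj ((θ : G → ℂ) z') = -(e : ℂ) := by
    intro z hz z' hz' hnc
    have h3 := Cfsg.Agent.Lib.CT.SectionOrth.section_orthogonality p M hM _ hB0 z z' z z'
      (Cfsg.Agent.Lib.CT.ColumnId.isPPart_self p hp z ⟨1, by rw [pow_one, hord z hz]⟩)
      (Cfsg.Agent.Lib.CT.ColumnId.isPPart_self p hp z' ⟨1, by rw [pow_one, hord z' hz']⟩) hnc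
    rw [hsplit, hXX z hz z' hz'] at h3
    linear_combination h3
  -- F4
  have F4 : ∀ z ∈ Pf, ∀ z' ∈ Pf, IsConj z z' → ∀ θ ∈ Yf, (θ : G → ℂ) z' = (θ : G → ℂ) z := by
    intro z _ z' _ hc θ _
    obtain ⟨g, hg⟩ := isConj_iff.mp hc
    rw [← hg]
    exact Cfsg.Agent.Lib.CT.Orth.irr_isClassFunction θ z g
  -- class sizes
  have hcl : ∀ z ∈ Pf, (Pf.filter (IsConj z)).card = e := by
    intro z hz
    have := card_class p P hP hC e hN z ((hmemP z).mp hz).1 ((hmemP z).mp hz).2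
    rw [Nat.card_coe_set_eq] at this
    rw [← this, ← Set.ncard_coe_finset]
    congr 1
    ext a
    rw [hPf]
    simp
  obtain ⟨hR0, hS⟩ := Cfsg.Agent.Lib.Helper79.BRPYCore.core Yf Pf
    (fun (θ : IrrCharacter G) (z : G) => (θ : G → ℂ) z) R hRnn IsConj e t he (ε : ℂ) hεc hYfc hPfc
    hcl F1 F2 F3 F4
  refine ⟨?_, ?_, ?_, ?_⟩
  · intro z hz hz1
    rw [fsum_eq, ← hYf]
    exact F1 z ((hmemP z).mpr ⟨hz, hz1⟩)
  · intro z hz hz1
    have hzP : z ∈ Pf := (hmemP z).mpr ⟨hz, hz1⟩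
    rw [fsum_eq, ← hYf]
    have h2 := F2 z hzP
    rw [hR0 z hzP, Complex.ofReal_zero, add_zero] at h2
    rw [h2, Nat.cast_sub (by rw [hpe]; nlinarith), hpc]
  · intro θ hθ
    rw [fsum_eq, ← hPf]
    exact hS θ ((hmemY θ).mpr hθ)
  · intro χ hχ z hz hz1
    have hzP : z ∈ Pf := (hmemP z).mpr ⟨hz, hz1⟩
    have h0 := hR0 z hzP
    rw [hRdef] at h0
    have h1 := (Finset.sum_eq_zero_iff_of_nonneg fun χ _ => Complex.normSq_nonneg _).mp h0 χ
      ((hmemC χ).mpr hχ)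
    exact Complex.normSq_eq_zero.mp h1

end Cfsg.Agent.Lib.Helper79.BRPY
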