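import Mathlib
import Cfsg.Agent.Lib.Helper59.C2Stmt

/-!
S5974 / C2FIX sub-call, piece BLOCK4: an invariant hyperbolic 4-space (characteristic 2).
-/

set_option autoImplicit false

universe u

open scoped Matrix

namespace Cfsg.Agent.Lib.Helper79.C2BLOCK4

open Cfsg.Agent.Lib.Helper44.TPStmt (J NDeg Stab TSub Plus)
open QuadraticMap

section abs

variable {F : Type u} [Field F] [CharP F 2] {V : Type*} [AddCommGroup V] [Module F V]

theorem block4_abs (Q : QuadraticForm F V) (x : V →ₗ[F] V)
    (hxQ : ∀ a, Q (x a) = Q a) (hxx : ∀ a, x (x a) = a)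
    (A : Submodule F V) (hA : ∀ a ∈ A, x a ∈ A)
    (hnd : ∀ w ∈ A, w ≠ 0 → ∃ y ∈ A, polar Q y w ≠ 0)
    (hvan : ∀ a ∈ A, polar Q a (x a) = 0)
    (u : V) (hu : u ∈ A) (hxu : x u ≠ u) :
    ∃ B : Submodule F V, B ≤ A ∧ B.map x ≤ B ∧
      (∀ w ∈ B, w ≠ 0 → ∃ y ∈ B, polar Q y w ≠ 0) ∧
      (∃ U : Submodule F V, U ≤ B ∧ (∀ w ∈ U, Q w = 0) ∧
        2 * Module.finrank F U = Module.finrank F B) ∧
      Module.finrank F B = 4 := by
  have h2 : (2 : F) = 0 := CharTwo.two_eq_zero
  have hVV : ∀ a : V, a + a = 0 := by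
    intro a; rw [← two_smul F a, h2, zero_smul]
  have hself : ∀ a, polar Q a a = 0 := by
    intro a
    rw [QuadraticMap.polar_self]
    simp [two_smul, CharTwo.add_self_eq_zero]
  have hiso : ∀ a b, polar Q (x a) (x b) = polar Q a b := by
    intro a b
    simp only [polar, ← map_add, hxQ]
  obtain ⟨N, hN⟩ : ∃ N : V → V, ∀ a, N a = x a + a := ⟨fun a => x a + a, fun a => rfl⟩
  have hadj : ∀ a b, polar Q a (N b) = polar Q (N a) b := by
    intro a b
    rw [hN, hN, polar_add_right, polar_add_left]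
    congr 1
    have := hiso a (x b)
    rw [hxx] at this
    exact this.symm
  have hNN : ∀ a, N (N a) = 0 := by
    intro a
    rw [hN, hN, map_add, hxx]
    have : a + x a + (x a + a) = (a + a) + (x a + x a) := by abel
    rw [this, hVV, hVV, add_zero]
  have hNA : ∀ a ∈ A, N a ∈ A := fun a ha => by rw [hN]; exact A.add_mem (hA a ha) ha
  have hperp : ∀ a ∈ A, polar Q a (N a) = 0 := by
    intro a ha
    rw [hN, polar_add_right, hvan a ha, hself, add_zero]
  have hperp' : ∀ a ∈ A, polar Q (N a) a = 0 := by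
    intro a ha
    rw [polar_comm]; exact hperp a ha
  have hNN0 : ∀ a b, polar Q (N a) (N b) = 0 := by
    intro a b
    rw [← hadj, hNN, polar_zero_right]
  have hQN : ∀ a ∈ A, Q (N a) = 0 := by
    intro a ha
    rw [hN, QuadraticMap.map_add (⇑Q) (x a) a, hxQ, polar_comm, hvan a ha, add_zero, ← two_mul, h2,
      zero_mul]
  have hxN : ∀ a, x (N a) = N a := by
    intro a; rw [hN, map_add, hxx, add_comm]
  have hxa : ∀ a, x a = N a + a := by
    intro a; rw [hN, add_assoc, hVV, add_zero]
  have hNu0 : N u ≠ 0 := by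
    intro h
    apply hxu
    rw [hN] at h
    have h' := eq_neg_of_add_eq_zero_left h
    rw [h']
    exact (eq_neg_of_add_eq_zero_left (hVV u)).symm
  obtain ⟨y, hyA, hy⟩ := hnd (N u) (hNA u hu) hNu0
  obtain ⟨v, hv⟩ : ∃ v : V, v = (polar Q y (N u))⁻¹ • y := ⟨_, rfl⟩
  have hvA : v ∈ A := by rw [hv]; exact A.smul_mem _ hyA
  have hv1 : polar Q v (N u) = 1 := by
    rw [hv, polar_smul_left, smul_eq_mul, inv_mul_cancel₀ hy]
  have hv1' : polar Q (N u) v = 1 := by rw [polar_comm]; exact hv1
  have huNv : polar Q u (N v) = 1 := by rw [hadj]; exact hv1'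
  have hNvu : polar Q (N v) u = 1 := by rw [polar_comm]; exact huNv
  have key1 : ∀ α β γ δ : F,
      polar Q (α • u + β • v + γ • N u + δ • N v) (N v) = α := by
    intro α β γ δ
    simp only [polar_add_left, polar_smul_left, smul_eq_mul, huNv, hperp v hvA, hNN0, mul_one,
      mul_zero, add_zero]
  have key2 : ∀ α β γ δ : F,
      polar Q (α • u + β • v + γ • N u + δ • N v) (N u) = β := by
    intro α β γ δ
    simp only [polar_add_left, polar_smul_left, smul_eq_mul, hperp u hu, hv1, hNN0, mul_one,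
      mul_zero, add_zero, zero_add]
  have key3 : ∀ α β γ δ : F,
      polar Q (α • u + β • v + γ • N u + δ • N v) u = β * polar Q v u + δ := by
    intro α β γ δ
    simp only [polar_add_left, polar_smul_left, smul_eq_mul, hself, hperp' u hu, hNvu, mul_one,
      mul_zero, add_zero, zero_add]
  have key4 : ∀ α β γ δ : F,
      polar Q (α • u + β • v + γ • N u + δ • N v) v = α * polar Q u v + γ := by
    intro α β γ δ
    simp only [polar_add_left, polar_smul_left, smul_eq_mul, hself, hv1', hperp' v hvA, mul_one,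
      mul_zero, add_zero, zero_add]
  obtain ⟨e, he⟩ : ∃ e : Fin 4 → V, e = ![u, v, N u, N v] := ⟨_, rfl⟩
  have he0 : e 0 = u := by rw [he]; rfl
  have he1 : e 1 = v := by rw [he]; rfl
  have he2 : e 2 = N u := by rw [he]; rfl
  have he3 : e 3 = N v := by rw [he]; rfl
  have hsum : ∀ c : Fin 4 → F,
      ∑ i, c i • e i = c 0 • u + c 1 • v + c 2 • N u + c 3 • N v := by
    intro c
    rw [Fin.sum_univ_four, he0, he1, he2, he3]
  have hli : LinearIndependent F e := by
    rw [Fintype.linearIndependent_iff]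
    intro g hg
    rw [hsum] at hg
    have g0 : g 0 = 0 := by
      have := key1 (g 0) (g 1) (g 2) (g 3)
      rw [hg, polar_zero_left] at this
      exact this.symm
    have g1 : g 1 = 0 := by
      have := key2 (g 0) (g 1) (g 2) (g 3)
      rw [hg, polar_zero_left] at this
      exact this.symm
    have g3 : g 3 = 0 := by
      have := key3 (g 0) (g 1) (g 2) (g 3)
      rw [hg, polar_zero_left, g1, zero_mul, zero_add] at this
      exact this.symm
    have g2 : g 2 = 0 := by
      have := key4 (g 0) (g 1) (g 2) (g 3)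
      rw [hg, polar_zero_left, g0, zero_mul, zero_add] at this
      exact this.symm
    intro i
    fin_cases i
    · exact g0
    · exact g1
    · exact g2
    · exact g3
  have hmemB : ∀ i, e i ∈ Submodule.span F (Set.range e) := fun i =>
    Submodule.subset_span ⟨i, rfl⟩
  refine ⟨Submodule.span F (Set.range e), ?_, ?_, ?_, ?_, ?_⟩
  · rw [Submodule.span_le]
    rintro _ ⟨i, rfl⟩
    fin_cases i
    · show e 0 ∈ A
      rw [he0]; exact hu
    · show e 1 ∈ A
      rw [he1]; exact hvA
    · show e 2 ∈ A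
      rw [he2]; exact hNA u hu
    · show e 3 ∈ A
      rw [he3]; exact hNA v hvA
  · rw [Submodule.map_span_le]
    rintro _ ⟨i, rfl⟩
    fin_cases i
    · show x (e 0) ∈ _
      rw [he0, hxa u, ← he2, ← he0]
      exact Submodule.add_mem _ (hmemB 2) (hmemB 0)
    · show x (e 1) ∈ _
      rw [he1, hxa v, ← he3, ← he1]
      exact Submodule.add_mem _ (hmemB 3) (hmemB 1)
    · show x (e 2) ∈ _
      rw [he2, hxN u, ← he2]
      exact hmemB 2
    · show x (e 3) ∈ _
      rw [he3, hxN v, ← he3]
      exact hmemB 3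
  · intro w hw hw0
    rw [Submodule.mem_span_range_iff_exists_fun] at hw
    obtain ⟨c, hc⟩ := hw
    rw [hsum] at hc
    by_cases c0 : c 0 = 0
    · by_cases c1 : c 1 = 0
      · by_cases c3 : c 3 = 0
        · by_cases c2 : c 2 = 0
          · exfalso
            apply hw0
            rw [← hc, c0, c1, c2, c3]
            simp
          · refine ⟨v, by rw [← he1]; exact hmemB 1, ?_⟩
            rw [polar_comm, ← hc, key4, c0, zero_mul, zero_add]
            exact c2
        · refine ⟨u, by rw [← he0]; exact hmemB 0, ?_⟩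
          rw [polar_comm, ← hc, key3, c1, zero_mul, zero_add]
          exact c3
      · refine ⟨N u, by rw [← he2]; exact hmemB 2, ?_⟩
        rw [polar_comm, ← hc, key2]
        exact c1
    · refine ⟨N v, by rw [← he3]; exact hmemB 3, ?_⟩
      rw [polar_comm, ← hc, key1]
      exact c0
  · obtain ⟨e', he'⟩ : ∃ e' : Fin 2 → V, e' = ![N u, N v] := ⟨_, rfl⟩
    have he'0 : e' 0 = N u := by rw [he']; rfl
    have he'1 : e' 1 = N v := by rw [he']; rfl
    have hsum' : ∀ c : Fin 2 → F, ∑ i, c i • e' i = c 0 • N u + c 1 • N v := by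
      intro c
      rw [Fin.sum_univ_two, he'0, he'1]
    have hli' : LinearIndependent F e' := by
      rw [Fintype.linearIndependent_iff]
      intro g hg
      rw [hsum'] at hg
      have g1 : g 1 = 0 := by
        have := key3 0 0 (g 0) (g 1)
        rw [zero_smul, zero_smul, zero_add, zero_add, hg, polar_zero_left, zero_mul,
          zero_add] at this
        exact this.symm
      have g0 : g 0 = 0 := by
        have := key4 0 0 (g 0) (g 1)
        rw [zero_smul, zero_smul, zero_add, zero_add, hg, polar_zero_left, zero_mul,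
          zero_add] at this
        exact this.symm
      intro i
      fin_cases i
      · exact g0
      · exact g1
    refine ⟨Submodule.span F (Set.range e'), ?_, ?_, ?_⟩
    · rw [Submodule.span_le]
      rintro _ ⟨i, rfl⟩
      fin_cases i
      · show e' 0 ∈ _
        rw [he'0, ← he2]; exact hmemB 2
      · show e' 1 ∈ _
        rw [he'1, ← he3]; exact hmemB 3
    · intro w hw
      rw [Submodule.mem_span_range_iff_exists_fun] at hw
      obtain ⟨c, hc⟩ := hw
      rw [hsum'] at hc
      rw [← hc, QuadraticMap.map_add (⇑Q) (c 0 • N u) (c 1 • N v), QuadraticMap.map_smul,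
        QuadraticMap.map_smul,
        hQN u hu, hQN v hvA, polar_smul_left, polar_smul_right, hNN0]
      simp
    · rw [finrank_span_eq_card hli', finrank_span_eq_card hli]
      simp
  · rw [finrank_span_eq_card hli]
    simp

end abs

/-- `Cfsg.quadFormPlus` as a quadratic form -/
def pq (F : Type u) [Field F] (d : ℕ) : QuadraticForm F (J d → F) :=
  (∑ i : Fin d, QuadraticMap.proj (R := F) (Sum.inl i) (Sum.inr i)).copy
    (Cfsg.quadFormPlus d F)
    (by funext v; simp [Cfsg.quadFormPlus])

theorem pq_apply (F : Type u) [Field F] (d : ℕ) (v : J d → F) :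
    pq F d v = Cfsg.quadFormPlus d F v := rfl

theorem main : Cfsg.Agent.Lib.Helper59.C2Stmt.Block4.{u} := by
  intro F _ _ _ d x hx hxx A hStab hND hvan u hu hxu
  have hxQ : ∀ a, pq F d (Matrix.toLin' (x : Matrix (J d) (J d) F) a) = pq F d a := by
    intro a
    have := hx a a
    rw [pq_apply, pq_apply, Matrix.toLin'_apply]
    exact this
  have hxx' : ∀ a, Matrix.toLin' (x : Matrix (J d) (J d) F)
      (Matrix.toLin' (x : Matrix (J d) (J d) F) a) = a := by
    intro a
    rw [Matrix.toLin'_apply, Matrix.toLin'_apply, Matrix.mulVec_mulVec, hxx, Matrix.one_mulVec]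
  have hA' : ∀ a ∈ A, Matrix.toLin' (x : Matrix (J d) (J d) F) a ∈ A := fun a ha =>
    hStab (Submodule.mem_map_of_mem ha)
  have hnd' : ∀ w ∈ A, w ≠ 0 → ∃ y ∈ A, polar (pq F d) y w ≠ 0 := fun w hw hw0 =>
    (hND w hw hw0).1
  have hvan' : ∀ a ∈ A, polar (pq F d) a (Matrix.toLin' (x : Matrix (J d) (J d) F) a) = 0 := by
    intro a ha
    rw [Matrix.toLin'_apply]
    exact hvan a ha
  have hxu' : Matrix.toLin' (x : Matrix (J d) (J d) F) u ≠ u := by
    rw [Matrix.toLin'_apply]
    exact hxu
  obtain ⟨B, hBA, hBx, hBnd, ⟨U, hUB, hUQ, hUr⟩, hB4⟩ :=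
    block4_abs (pq F d) (Matrix.toLin' (x : Matrix (J d) (J d) F)) hxQ hxx' A hA' hnd' hvan' u hu
      hxu'
  refine ⟨B, hBA, hBx, ?_, ⟨U, hUB, hUQ, hUr⟩, hB4⟩
  intro w hw hw0
  obtain ⟨y, hy, hyw⟩ := hBnd w hw hw0
  exact ⟨⟨y, hy, hyw⟩, ⟨y, hy, by rw [QuadraticMap.polar_comm]; exact hyw⟩⟩

end Cfsg.Agent.Lib.Helper79.C2BLOCK4
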