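import Mathlib
import Cfsg.Agent.Lib.Helper32.D8Stmt
import Cfsg.Agent.Lib.Helper3.Irr
import Cfsg.Agent.Lib.CT.Ops
import Cfsg.Agent.Lib.CT.Clifford

/-! S3716 piece MOD9 (extra seat): the degree congruence, from IP (both sides), DUAL and NF. -/

set_option autoImplicit false
set_option linter.style.haveILetI false

namespace Cfsg.Agent.Lib.Helper79.D8MOD9

open Cfsg Cfsg.Agent.Lib.CT Cfsg.Agent.Lib.CT.Wedderburn
open Cfsg.Agent.Lib.Helper32 Cfsg.Agent.Lib.Helper32.D8Stmt Cfsg.Agent.Lib.Helper3.Irr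
open scoped ComplexConjugate

universe u

/-- The sum of a class function over `T` in the configuration. -/
theorem sum_T (hNF : D8Stmt.NF.{u}) {G : Type u} [Group G] [Fintype G] {T N : Subgroup G}
    {x y a b w : G} (hcfg : Cfg T N x y a b w) (χ : G → ℂ) (hcl : IsClassFunction G χ)
    [Fintype T] :
    ∑ t : T, χ (t : G) = χ 1 + 4 * χ x + 4 * χ (x * y) := by
  classical
  obtain ⟨hT, -, huniq, -, -, -, -⟩ := hNF hcfg
  have hmem : ∀ p : Fin 3 × Fin 3, x ^ (p.1 : ℕ) * y ^ (p.2 : ℕ) ∈ T :=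
    fun p => (hT _).2 ⟨_, _, rfl⟩
  have hinj : Function.Injective
      (fun p : Fin 3 × Fin 3 => (⟨x ^ (p.1 : ℕ) * y ^ (p.2 : ℕ), hmem p⟩ : T)) := by
    intro p q hpq
    have h1 : x ^ (p.1 : ℕ) * y ^ (p.2 : ℕ) = x ^ (q.1 : ℕ) * y ^ (q.2 : ℕ) :=
      congrArg Subtype.val hpq
    have h2 := huniq (p.1 : ℕ) (p.2 : ℕ) 0 0 0 (q.1 : ℕ) (q.2 : ℕ) 0 0 0
      (by simpa using h1)
    have hp1 := p.1.isLt
    have hp2 := p.2.isLt
    have hq1 := q.1.isLt
    have hq2 := q.2.isLt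
    apply Prod.ext
    · apply Fin.ext; omega
    · apply Fin.ext; omega
  have hcard : Fintype.card (Fin 3 × Fin 3) = Fintype.card T := by
    rw [← Nat.card_eq_fintype_card (α := T), hcfg.cardT]
    simp
  have hbij := (Fintype.bijective_iff_injective_and_card _).2 ⟨hinj, hcard⟩
  rw [← Function.Bijective.sum_comp hbij (fun t : T => χ (t : G))]
  rw [Fintype.sum_prod_type]
  simp only [Fin.sum_univ_three, Fin.val_zero, Fin.val_one, Fin.val_two, pow_zero, pow_one,
    one_mul, mul_one]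
  have hx2 : x ^ 2 = x⁻¹ := by
    have := hcfg.x3
    rw [pow_succ] at this
    exact eq_inv_of_mul_eq_one_left this
  have hy2 : y ^ 2 = y⁻¹ := by
    have := hcfg.y3
    rw [pow_succ] at this
    exact eq_inv_of_mul_eq_one_left this
  have hay : a * y * a⁻¹ = y := by rw [hcfg.ay, mul_inv_cancel_right]
  have hbx : b * x * b⁻¹ = x := by rw [hcfg.bx, mul_inv_cancel_right]
  have e1 : χ y = χ x := by rw [← hcfg.wx]; exact hcl x w
  have e2 : χ (y ^ 2) = χ x := by
    rw [hy2, ← hcfg.by_, hcl y b]; exact e1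
  have e3 : χ (x ^ 2) = χ x := by
    rw [hx2, ← hcfg.ax]; exact hcl x a
  have e4 : χ (x * y ^ 2) = χ (x * y) := by
    have h : x * y ^ 2 = b * (x * y) * b⁻¹ := by
      rw [hy2]
      calc x * y⁻¹ = (b * x * b⁻¹) * (b * y * b⁻¹) := by rw [hbx, hcfg.by_]
        _ = b * (x * y) * b⁻¹ := by group
    rw [h]; exact hcl (x * y) b
  have e5 : χ (x ^ 2 * y) = χ (x * y) := by
    have h : x ^ 2 * y = a * (x * y) * a⁻¹ := by
      rw [hx2]
      calc x⁻¹ * y = (a * x * a⁻¹) * (a * y * a⁻¹) := by rw [hay, hcfg.ax]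
        _ = a * (x * y) * a⁻¹ := by group
    rw [h]; exact hcl (x * y) a
  have e6 : χ (x ^ 2 * y ^ 2) = χ (x * y) := by
    have h : x ^ 2 * y ^ 2 = (a * b) * (x * y) * (a * b)⁻¹ := by
      rw [hx2, hy2]
      calc x⁻¹ * y⁻¹ = (a * x * a⁻¹) * (a * (b * y * b⁻¹) * a⁻¹) := by
            rw [hcfg.ax, hcfg.by_]
            have : a * y⁻¹ * a⁻¹ = y⁻¹ := by
              have h3 : a * y⁻¹ * a⁻¹ = (a * y * a⁻¹)⁻¹ := by group
              rw [h3, hay]
            rw [this]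
        _ = (a * (b * x * b⁻¹) * a⁻¹) * (a * (b * y * b⁻¹) * a⁻¹) := by rw [hbx]
        _ = (a * b) * (x * y) * (a * b)⁻¹ := by group
    rw [h]; exact hcl (x * y) (a * b)
  rw [e1, e2, e3, e4, e5, e6]
  ring

theorem main (hIP : D8Stmt.IP.{u}) (hDUAL : D8Stmt.DUAL.{u}) (hNF : D8Stmt.NF.{u}) :
    D8Stmt.MOD9.{u} := by
  intro G _ _ T N x y a b w hcfg f g hOm f' g' hOm' χ hχ
  classical
  have hch : IsCharacter G χ := isCharacter_of_irr hχ
  have hcl : IsClassFunction G χ := char_isClassFunction hch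
  obtain ⟨h1, h2⟩ := hIP hcfg f g hOm χ hcl
  obtain ⟨hcfg', -⟩ := hDUAL hcfg
  obtain ⟨h3, h4⟩ := hIP hcfg' f' g' hOm' χ hcl
  haveI : Fintype T := Fintype.ofFinite T
  have hsum := sum_T hNF hcfg χ hcl
  -- the restriction of χ to T
  have hres : IsCharacter T (fun t : T => χ (T.subtype t)) :=
    Ops.isCharacter_comp_hom T.subtype hch
  have htriv : IsCharacter T (fun _ : T => (1 : ℂ)) := isCharacter_of_irr Ops.isIrrCharacter_one
  obtain ⟨n, hn⟩ := Clifford.classInner_char_nat hres htriv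
  have hn' : ∑ t : T, χ (t : G) = 9 * (n : ℂ) := by
    unfold classInner at hn
    rw [hcfg.cardT] at hn
    simp only [map_one, mul_one, Subgroup.coe_subtype] at hn
    have h9 : ((9 : ℕ) : ℂ) ≠ 0 := by norm_num
    field_simp at hn
    rw [hn]; push_cast; ring
  have hxx : χ (x * y * (x * y⁻¹)) = χ x := by
    have h : x * y * (x * y⁻¹) = a * x * a⁻¹ := by
      rw [hcfg.ax]
      have hx2 : x * x = x⁻¹ := by
        have := hcfg.x3
        rw [pow_succ, pow_two] at this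
        exact eq_inv_of_mul_eq_one_left this
      calc x * y * (x * y⁻¹) = x * (y * x) * y⁻¹ := by group
        _ = x * (x * y) * y⁻¹ := by rw [hcfg.xy]
        _ = x * x := by group
        _ = x⁻¹ := hx2
    rw [h]; exact hcl x a
  obtain ⟨d, -, hd⟩ := IsIrrCharacter.exists_apply_one_pos hχ
  refine ⟨(n : ℤ), ?_⟩
  rw [h1, h2, h3, h4, hxx]
  have hconj : conj (χ 1 + 4 * χ x + 4 * χ (x * y)) = 9 * (n : ℂ) := by
    rw [← hsum, hn', map_mul, Complex.conj_ofNat, Complex.conj_natCast]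
  rw [map_add, map_add, map_mul, map_mul, hd] at hconj
  simp only [map_natCast, map_ofNat] at hconj
  rw [hd]
  push_cast
  linear_combination hconj

end Cfsg.Agent.Lib.Helper79.D8MOD9
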