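import Mathlib
import Cfsg.Agent.Lib.Helper68.M11UStmt
import Cfsg.Agent.Lib.Helper92.M11Base
import Cfsg.Agent.Lib.CT.Wedderburn

/-!
# S0420, piece CHARQ: the sums of a character of degree 10 over `Q` and over `P Q`
-/

set_option autoImplicit false

namespace Cfsg.Agent.Lib.Helper79.MUCHARQ

open Cfsg Cfsg.Agent.Lib.Helper68.M11UStmt Cfsg.Agent.Lib.Helper92.M11Stmt
  Cfsg.Agent.Lib.CT.Wedderburn

universe u

open Classical in
theorem finsum_subgroup_eq {G : Type u} [Group G] [Fintype G] (H : Subgroup G) (f : G → ℂ) :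
    (∑ᶠ h : H, f (h : G)) = ∑ g ∈ Finset.univ.filter (fun g : G => g ∈ H), f g := by
  have := Fintype.ofFinite H
  rw [finsum_eq_sum_of_fintype]
  exact (Finset.sum_subtype _ (fun x => by simp) f).symm

open Classical in
theorem card_filter_subgroup {G : Type u} [Group G] [Fintype G] (H : Subgroup G) :
    (Finset.univ.filter (fun g : G => g ∈ H)).card = Nat.card H :=
  (Nat.subtype_card _ (fun x => by simp)).symm

theorem main (hMono : Mono.{u}) (hSP : SumProd.{u}) (hCC : ConjCoset.{u}) (hQ4 : CharQ4.{u}) :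
    CharQ.{u} := by
  intro G _ _ _ hG D i P t Q y ht hinv hQ8 htQ hnorm hsq hy hyt hyQ hyfix hχP hχt
  classical
  have := Fintype.ofFinite G
  obtain ⟨χ, hχdef⟩ : ∃ χ : G → ℂ, χ = (D.a i : G → ℂ) := ⟨_, rfl⟩
  have hχP' : ∀ x ∈ (P : Subgroup G), x ≠ 1 → χ x = 1 := by rw [hχdef]; exact hχP
  have hχt' : χ t = 2 := by rw [hχdef]; exact hχt
  rw [← hχdef]
  have hirr : IsIrrCharacter G χ := by rw [hχdef]; exact (D.a i).2
  have hchar : IsCharacter G χ := isCharacter_of_irr hirr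
  have hcf : ∀ x g : G, χ (x * g * x⁻¹) = χ g := fun x g => char_isClassFunction hchar g x
  have hχ1 : χ 1 = 10 := by
    rw [← char_natCast_charDegree hchar, hχdef, D.ha i]
    norm_num
  -- basic facts
  have ht1 : t ≠ 1 := by
    rintro rfl
    rw [orderOf_one] at ht
    omega
  have htt : t * t = 1 := by
    rw [← sq, ← ht]
    exact pow_orderOf_eq_one t
  have htinv : t⁻¹ = t := (eq_inv_of_mul_eq_one_left htt).symm
  have hy3 : y * y * y = 1 := by
    have h := pow_orderOf_eq_one y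
    rw [hy] at h
    rw [← h, pow_succ, pow_two]
  have : Fact (Nat.Prime 3) := ⟨Nat.prime_three⟩
  have hP9 : Nat.card (P : Subgroup G) = 9 := by
    rw [P.card_eq_multiplicity, hG, Cfsg.Agent.Lib.Helper92.M11Base.fact3]
    norm_num
  have hodd : ∀ x ∈ (P : Subgroup G), t * x = x * t → x = 1 := by
    intro x hx hc
    have h1 := hinv x hx
    have h2 : x = x⁻¹ := by
      rw [← h1, hc]
      group
    have h3 : x * x = 1 := by
      nth_rewrite 2 [h2]
      exact mul_inv_cancel x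
    have h4 : orderOf x ∣ 2 := orderOf_dvd_of_pow_eq_one (by rw [sq]; exact h3)
    have h5 : orderOf x ∣ 9 := by
      rw [← hP9]
      exact Subgroup.orderOf_dvd_natCard _ hx
    have h6 : orderOf x ∣ 1 := by
      have := Nat.dvd_gcd h4 h5
      simpa using this
    exact orderOf_eq_one_iff.mp (Nat.dvd_one.mp h6)
  have hfree : ∀ q ∈ Q, q ≠ 1 → ∀ x ∈ (P : Subgroup G), q * x = x * q → x = 1 := by
    intro q hq hq1 x hx hc
    apply hodd x hx
    by_cases hqt : q = t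
    · rw [← hqt]
      exact hc
    · rw [← hsq q hq hq1 hqt]
      calc q * q * x = q * (q * x) := by group
        _ = q * (x * q) := by rw [hc]
        _ = (q * x) * q := by group
        _ = x * q * q := by rw [hc]
        _ = x * (q * q) := by group
  have hPQ : ∀ x : G, x ∈ (P : Subgroup G) → x ∈ Q → x = 1 := by
    intro x hxP hxQ
    have h5 : orderOf x ∣ 9 := by
      rw [← hP9]
      exact Subgroup.orderOf_dvd_natCard _ hxP
    have h8 : orderOf x ∣ 8 := by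
      rw [← hQ8]
      exact Subgroup.orderOf_dvd_natCard _ hxQ
    have h6 : orderOf x ∣ 1 := by
      have := Nat.dvd_gcd h5 h8
      simpa using this
    exact orderOf_eq_one_iff.mp (Nat.dvd_one.mp h6)
  have hconj : ∀ q ∈ Q, q ≠ 1 → ∀ p ∈ (P : Subgroup G), χ (p * q) = χ q := by
    intro q hq hq1 p hp
    obtain ⟨g, hg, hgq⟩ := hCC G (P : Subgroup G) q (hnorm q hq) (hfree q hq hq1) p hp
    rw [← hgq, hcf]
  -- the finsets of elements of `P` and `Q`
  obtain ⟨QF, hQF⟩ : ∃ QF : Finset G, QF = Finset.univ.filter (fun g : G => g ∈ Q) := ⟨_, rfl⟩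
  obtain ⟨PF, hPF⟩ : ∃ PF : Finset G,
      PF = Finset.univ.filter (fun g : G => g ∈ (P : Subgroup G)) := ⟨_, rfl⟩
  have hmemQ : ∀ g, g ∈ QF ↔ g ∈ Q := by
    intro g
    rw [hQF]
    simp
  have hmemP : ∀ g, g ∈ PF ↔ g ∈ (P : Subgroup G) := by
    intro g
    rw [hPF]
    simp
  have hQFcard : QF.card = 8 := by rw [hQF, card_filter_subgroup, hQ8]
  have hPFcard : PF.card = 9 := by rw [hPF, card_filter_subgroup, hP9]
  have h1Q : (1 : G) ∈ QF := (hmemQ 1).mpr Q.one_mem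
  have h1P : (1 : G) ∈ PF := (hmemP 1).mpr (Subgroup.one_mem _)
  obtain ⟨R, hRdef⟩ : ∃ R : ℂ, R = ∑ g ∈ QF, χ g := ⟨_, rfl⟩
  have hRfin : (∑ᶠ q : Q, χ (q : G)) = R := by
    rw [finsum_subgroup_eq Q χ, ← hQF, hRdef]
  have hsumP : ∑ g ∈ PF, χ g = 18 := by
    rw [← Finset.add_sum_erase PF χ h1P, hχ1]
    have h : ∑ g ∈ PF.erase 1, χ g = ∑ g ∈ PF.erase 1, (1 : ℂ) :=
      Finset.sum_congr rfl fun g hg => by
        have hg' := Finset.mem_erase.mp hg
        exact hχP' g ((hmemP g).mp hg'.2) hg'.1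
    rw [h, Finset.sum_const, Finset.card_erase_of_mem h1P, hPFcard]
    norm_num
  -- the sum over `P ⊔ Q`
  obtain ⟨hcardPQ, hsumPQ⟩ := hSP G (P : Subgroup G) Q hnorm hPQ
  have hPQsum : (∑ᶠ h : ((P : Subgroup G) ⊔ Q : Subgroup G), χ (h : G)) = 9 * R - 72 := by
    rw [hsumPQ χ]
    have h1 : ∀ p : (P : Subgroup G), (∑ᶠ q : Q, χ ((p : G) * (q : G))) =
        χ (p : G) + (R - 10) := by
      intro p
      rw [finsum_subgroup_eq Q (fun g => χ ((p : G) * g)), ← hQF,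
        ← Finset.add_sum_erase QF _ h1Q, mul_one]
      congr 1
      have h : ∑ g ∈ QF.erase 1, χ ((p : G) * g) = ∑ g ∈ QF.erase 1, χ g :=
        Finset.sum_congr rfl fun g hg => by
          have hg' := Finset.mem_erase.mp hg
          exact hconj g ((hmemQ g).mp hg'.2) hg'.1 p p.2
      rw [h, hRdef, ← Finset.add_sum_erase QF χ h1Q, hχ1]
      ring
    rw [finsum_congr h1]
    have h2 : (∑ᶠ p : (P : Subgroup G), (χ (p : G) + (R - 10))) =
        ∑ g ∈ PF, (χ g + (R - 10)) := by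
      rw [hPF]
      exact finsum_subgroup_eq (P : Subgroup G) (fun g => χ g + (R - 10))
    rw [h2, Finset.sum_add_distrib, hsumP, Finset.sum_const, hPFcard]
    simp only [nsmul_eq_mul]
    push_cast
    ring
  -- the structure of `Q`
  have hA : ∃ a ∈ QF, a ≠ 1 ∧ a ≠ t := by
    by_contra hcon
    push Not at hcon
    have hsub : QF ⊆ {1, t} := fun g hg => by
      by_cases h1 : g = 1
      · simp [h1]
      · simp [hcon g hg h1]
    have h1 := Finset.card_le_card hsub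
    have h2 : ({1, t} : Finset G).card ≤ 2 := Finset.card_le_two
    omega
  obtain ⟨a, haQF, ha1, hat⟩ := hA
  have haQ := (hmemQ a).mp haQF
  have hσA : ∀ q : G, (q ∈ Q ∧ q ≠ 1 ∧ q ≠ t) → (y * q * y⁻¹ ∈ Q ∧ y * q * y⁻¹ ≠ 1 ∧
      y * q * y⁻¹ ≠ t) := by
    rintro q ⟨hq, hq1, hqt⟩
    refine ⟨hyQ q hq, fun h => hq1 ?_, fun h => hqt ?_⟩
    · have h2 : q = y⁻¹ * (y * q * y⁻¹) * y := by group
      rw [h2, h]
      group
    · have h2 : q = y⁻¹ * (y * q * y⁻¹) * y := by group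
      rw [h2, h]
      calc y⁻¹ * t * y = y⁻¹ * (t * y) := by group
        _ = y⁻¹ * (y * t) := by rw [hyt]
        _ = t := by group
  have hN1 : ∀ q : G, (q ∈ Q ∧ q ≠ 1 ∧ q ≠ t) → y * q * y⁻¹ ≠ q := by
    rintro q ⟨hq, hq1, hqt⟩ h
    rcases hyfix q hq h with h' | h'
    · exact hq1 h'
    · exact hqt h'
  have hN0 : ∀ q : G, (q ∈ Q ∧ q ≠ 1 ∧ q ≠ t) → q ≠ q⁻¹ := by
    rintro q ⟨hq, hq1, hqt⟩ h
    apply ht1
    rw [← hsq q hq hq1 hqt]
    nth_rewrite 2 [h]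
    exact mul_inv_cancel q
  have hN2 : ∀ q : G, (q ∈ Q ∧ q ≠ 1 ∧ q ≠ t) → y * q * y⁻¹ ≠ q⁻¹ := by
    intro q hqA h
    apply hN1 q hqA
    have h2 : y * (y * q * y⁻¹) * y⁻¹ = q := by
      rw [h, show y * q⁻¹ * y⁻¹ = (y * q * y⁻¹)⁻¹ by group, h, inv_inv]
    calc y * q * y⁻¹ = y * (y * (y * q * y⁻¹) * y⁻¹) * y⁻¹ := by rw [h2]
      _ = (y * y * y) * q * (y * y * y)⁻¹ := by group
      _ = q := by rw [hy3]; group
  have haA : a ∈ Q ∧ a ≠ 1 ∧ a ≠ t := ⟨haQ, ha1, hat⟩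
  obtain ⟨b, hb⟩ : ∃ b : G, y * a * y⁻¹ = b := ⟨_, rfl⟩
  obtain ⟨c, hc⟩ : ∃ c : G, y * b * y⁻¹ = c := ⟨_, rfl⟩
  have hbA : b ∈ Q ∧ b ≠ 1 ∧ b ≠ t := by
    rw [← hb]
    exact hσA a haA
  have hcA : c ∈ Q ∧ c ≠ 1 ∧ c ≠ t := by
    rw [← hc]
    exact hσA b hbA
  have hca : y * c * y⁻¹ = a := by
    rw [← hc, ← hb]
    calc y * (y * (y * a * y⁻¹) * y⁻¹) * y⁻¹ = (y * y * y) * a * (y * y * y)⁻¹ := by group
      _ = a := by rw [hy3]; group
  have hab : a ≠ b := fun h => hN1 a haA (by rw [hb]; exact h.symm)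
  have hbc : b ≠ c := fun h => hN1 b hbA (by rw [hc]; exact h.symm)
  have hac : a ≠ c := fun h => hN1 c hcA (by rw [hca]; exact h)
  obtain ⟨T, hTdef⟩ : ∃ T : Finset G, T = {a, b, c} := ⟨_, rfl⟩
  have hTmem : ∀ x, x ∈ T ↔ x = a ∨ x = b ∨ x = c := by
    intro x
    rw [hTdef]
    simp
  have hTcard : T.card = 3 := by
    rw [hTdef]
    exact Finset.card_eq_three.mpr ⟨a, b, c, hab, hac, hbc, rfl⟩
  have hT'card : (T.image (fun g : G => g⁻¹)).card = 3 := by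
    rw [Finset.card_image_of_injective _ inv_injective, hTcard]
  have hdisj : Disjoint T (T.image (fun g : G => g⁻¹)) := by
    rw [Finset.disjoint_left]
    intro x hx hx'
    obtain ⟨z, hz, hzx⟩ := Finset.mem_image.mp hx'
    have hzx' : z⁻¹ = x := hzx
    rcases (hTmem x).mp hx with rfl | rfl | rfl <;> rcases (hTmem z).mp hz with rfl | rfl | rfl
    · exact hN0 _ haA hzx'.symm
    · exact hN2 _ haA (by rw [hb]; exact inv_eq_iff_eq_inv.mp hzx')
    · exact hN2 _ hcA (by rw [hca]; exact hzx'.symm)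
    · exact hN2 _ haA (by rw [hb]; exact hzx'.symm)
    · exact hN0 _ hbA hzx'.symm
    · exact hN2 _ hbA (by rw [hc]; exact inv_eq_iff_eq_inv.mp hzx')
    · exact hN2 _ hcA (by rw [hca]; exact inv_eq_iff_eq_inv.mp hzx')
    · exact hN2 _ hbA (by rw [hc]; exact hzx'.symm)
    · exact hN0 _ hcA hzx'.symm
  have htmem : t ∈ QF.erase 1 := Finset.mem_erase.mpr ⟨ht1, (hmemQ t).mpr htQ⟩
  have hAcard : ((QF.erase 1).erase t).card = 6 := by
    rw [Finset.card_erase_of_mem htmem, Finset.card_erase_of_mem h1Q, hQFcard]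
  have hinA : ∀ q : G, (q ∈ Q ∧ q ≠ 1 ∧ q ≠ t) → q ∈ (QF.erase 1).erase t := by
    rintro q ⟨hq, hq1, hqt⟩
    exact Finset.mem_erase.mpr ⟨hqt, Finset.mem_erase.mpr ⟨hq1, (hmemQ q).mpr hq⟩⟩
  have hinvA : ∀ q : G, (q ∈ Q ∧ q ≠ 1 ∧ q ≠ t) → (q⁻¹ ∈ Q ∧ q⁻¹ ≠ 1 ∧ q⁻¹ ≠ t) := by
    rintro q ⟨hq, hq1, hqt⟩
    refine ⟨Q.inv_mem hq, inv_ne_one.mpr hq1, fun h => hqt ?_⟩
    rw [← inv_inv q, h, htinv]
  have hTA : ∀ x ∈ T, (x ∈ Q ∧ x ≠ 1 ∧ x ≠ t) := by
    intro x hx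
    rcases (hTmem x).mp hx with rfl | rfl | rfl
    · exact haA
    · exact hbA
    · exact hcA
  have hsub : T ∪ T.image (fun g : G => g⁻¹) ⊆ (QF.erase 1).erase t := by
    intro x hx
    rcases Finset.mem_union.mp hx with h | h
    · exact hinA x (hTA x h)
    · obtain ⟨z, hz, rfl⟩ := Finset.mem_image.mp h
      exact hinA _ (hinvA z (hTA z hz))
  have hEq : T ∪ T.image (fun g : G => g⁻¹) = (QF.erase 1).erase t :=
    Finset.eq_of_subset_of_card_le hsub (by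
      rw [hAcard, Finset.card_union_of_disjoint hdisj, hTcard, hT'card])
  have hχb : χ b = χ a := by rw [← hb, hcf]
  have hχc : χ c = χ a := by rw [← hc, hcf, hχb]
  have hχb' : χ b⁻¹ = χ a⁻¹ := by
    rw [← hb, show (y * a * y⁻¹)⁻¹ = y * a⁻¹ * y⁻¹ by group, hcf]
  have hχc' : χ c⁻¹ = χ a⁻¹ := by
    rw [← hc, show (y * b * y⁻¹)⁻¹ = y * b⁻¹ * y⁻¹ by group, hcf, hχb']
  have hsumT : ∀ f : G → ℂ, ∑ g ∈ T, f g = f a + f b + f c := by
    intro f
    rw [hTdef, Finset.sum_insert (by simp [hab, hac]), Finset.sum_insert (by simp [hbc]),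
      Finset.sum_singleton]
    ring
  have hR : R = 12 + 3 * (χ a + χ a⁻¹) := by
    rw [hRdef, ← Finset.add_sum_erase QF χ h1Q, ← Finset.add_sum_erase (QF.erase 1) χ htmem,
      ← hEq, Finset.sum_union hdisj, Finset.sum_image (fun _ _ _ _ h => inv_injective h),
      hsumT χ, hsumT (fun g => χ g⁻¹), hχ1, hχt', hχb, hχc, hχb', hχc']
    ring
  obtain ⟨m, hm2, hm⟩ := hQ4 G hG D i P t a ht hinv (hsq a haQ ha1 hat) (hnorm a haQ) hχP hχt
  rw [← hχdef] at hm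
  obtain ⟨n, m', hm'n, hn, hm'⟩ := hMono G χ hchar Q ((P : Subgroup G) ⊔ Q) le_sup_right
  rw [hRfin, hQ8] at hn
  rw [hPQsum, hcardPQ, hP9, hQ8] at hm'
  rw [hm] at hR
  have hR12 : R = 12 * (m : ℂ) := by
    rw [hR]
    ring
  have e1 : 12 * m = 8 * n := by
    have : ((12 * m : ℕ) : ℂ) = ((8 * n : ℕ) : ℂ) := by
      push_cast
      rw [← hR12, hn]
      norm_num
    exact_mod_cast this
  have e2 : 108 * m = 72 * m' + 72 := by
    have : ((108 * m : ℕ) : ℂ) = ((72 * m' + 72 : ℕ) : ℂ) := by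
      push_cast
      rw [hR12] at hm'
      have h3 : 9 * (12 * (m : ℂ)) - 72 = ((9 * 8 : ℕ) : ℂ) * (m' : ℂ) := hm'
      push_cast at h3
      linear_combination h3
    exact_mod_cast this
  have hm2' : m = 2 := by omega
  have hR24 : R = 24 := by
    rw [hR12, hm2']
    norm_num
  refine ⟨by rw [hRfin, hR24], ?_⟩
  rw [hPQsum, hR24]
  norm_num

end Cfsg.Agent.Lib.Helper79.MUCHARQ
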