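import Mathlib
import Cfsg.Agent.Lib.Helper81.RMStmt
import Cfsg.Agent.Lib.Helper81.Expand
import Cfsg.Agent.Lib.Helper81.OddIndex
import Cfsg.Agent.Lib.Helper80.Integrality
import Cfsg.Agent.Lib.CT.Wedderburn
import Cfsg.Agent.Lib.CT.LinChar
import Cfsg.Agent.Lib.Helper70.FrattiniQuot

set_option autoImplicit false

/-! S4581 piece [NSYLA]: if all odd-degree irreducible characters of `N_G(P)` (`P` a Sylow
`2`-subgroup) are real-valued, then `N_G(P) = P` and `P' = Φ(P)`. -/

namespace Cfsg.Agent.Lib.Helper79.RMNSYLA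

open Cfsg
open scoped ComplexConjugate
open Cfsg.Agent.Lib.CT.Wedderburn Cfsg.Agent.Lib.Helper80.Integrality
open Cfsg.Agent.Lib.Helper81.Irr Cfsg.Agent.Lib.Helper81.Expand
  Cfsg.Agent.Lib.Helper81.OddIndex

universe u

/-- an element killed by all homomorphisms to `ℂˣ` lies in the derived subgroup -/
theorem mem_commutator_of_hom {P : Type u} [Group P] [Finite P] (x : P)
    (h : ∀ f : P →* ℂˣ, f x = 1) : x ∈ commutator P := by
  classical
  by_contra hx
  have hne : Abelianization.of x ≠ 1 := by
    intro h1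
    exact hx ((QuotientGroup.eq_one_iff x).mp h1)
  have hnz : NeZero ((Monoid.exponent (Abelianization P) : ℕ) : ℂ) :=
    ⟨Nat.cast_ne_zero.mpr Monoid.exponent_ne_zero_of_finite⟩
  obtain ⟨φ, hφ⟩ :=
    CommGroup.exists_apply_ne_one_of_hasEnoughRootsOfUnity (Abelianization P) ℂ hne
  exact hφ (h (φ.comp Abelianization.of))

/-- a group of odd order all of whose irreducible characters of odd degree are real is
trivial -/
theorem trivial_of_odd_real {Q : Type u} [Group Q] [Finite Q] (hodd : Odd (Nat.card Q))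
    (hreal : ∀ μ : IrrCharacter Q, ∀ q : Q, ((μ : Q → ℂ) q).im = 0) (q : Q) : q = 1 := by
  classical
  have := Fintype.ofFinite Q
  have htriv : ∀ μ : IrrCharacter Q, μ = trivChar Q := by
    intro μ
    apply real_irr_eq_triv hodd μ
    intro g
    rw [char_apply_inv (isCharacter_of_irr μ.2)]
    exact Complex.conj_eq_iff_im.mpr (hreal μ g)
  by_contra hq
  have h1 := second_orth_finsum q (1 : Q)
  have hun : Unique (IrrCharacter Q) := ⟨⟨trivChar Q⟩, htriv⟩
  rw [finsum_unique] at h1
  have h2 : IsEmpty {k : Q // k * 1 * k⁻¹ = q} := by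
    constructor
    rintro ⟨k, hk⟩
    apply hq
    rw [← hk]
    simp
  rw [Nat.card_of_isEmpty] at h1
  have h3 : (default : IrrCharacter Q) = trivChar Q := htriv _
  rw [h3] at h1
  simp [trivChar] at h1

/-- a real root of unity is `±1` -/
theorem real_root_unity (z : ℂˣ) (n : ℕ) (hn : n ≠ 0) (hz : z ^ n = 1)
    (him : ((z : ℂˣ) : ℂ).im = 0) : z = 1 ∨ z = -1 := by
  have h1 : ((z : ℂˣ) : ℂ) ^ n = 1 := by
    have := congrArg (fun w : ℂˣ => (w : ℂ)) hz
    simpa using this
  have h2 : ‖((z : ℂˣ) : ℂ)‖ = 1 := Complex.norm_eq_one_of_pow_eq_one h1 hn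
  have h3 : ((z : ℂˣ) : ℂ) = ((((z : ℂˣ) : ℂ).re : ℝ) : ℂ) := by
    apply Complex.ext
    · simp
    · simp [him]
  rw [h3, Complex.norm_real, Real.norm_eq_abs, abs_eq (zero_le_one)] at h2
  rcases h2 with h | h
  · left
    apply Units.ext
    rw [h3, h]
    simp
  · right
    apply Units.ext
    rw [h3, h]
    simp

/-- a homomorphism to `ℂˣ` with values `±1`, non-trivial at `x`: then `x ∉ Φ` -/
theorem not_mem_frattini {P : Type u} [Group P] (f : P →* ℂˣ)
    (hval : ∀ y : P, f y = 1 ∨ f y = -1) (x : P) (hx : f x ≠ 1) : x ∉ frattini P := by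
  intro hxf
  have hco : IsCoatom f.ker := by
    refine ⟨fun h => hx ?_, fun K hK => ?_⟩
    · have : x ∈ f.ker := by rw [h]; exact Subgroup.mem_top x
      exact MonoidHom.mem_ker.mp this
    · obtain ⟨k, hkK, hkn⟩ := SetLike.exists_of_lt hK
      have hk : f k = -1 := by
        rcases hval k with h | h
        · exact absurd (MonoidHom.mem_ker.mpr h) hkn
        · exact h
      rw [eq_top_iff]
      intro y _
      rcases hval y with h | h
      · exact hK.le (MonoidHom.mem_ker.mpr h)
      · have h1 : y * k⁻¹ ∈ f.ker := by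
          rw [MonoidHom.mem_ker, map_mul, map_inv, h, hk]
          simp
        have h2 : y = (y * k⁻¹) * k := by group
        rw [h2]
        exact K.mul_mem (hK.le h1) hkK
  exact hx (MonoidHom.mem_ker.mp (frattini_le_coatom hco hxf))

theorem main : Cfsg.Agent.Lib.Helper81.RMStmt.NSYLA.{u} := by
  intro G _ _ P hall
  classical
  have hp2 : Fact (Nat.Prime 2) := ⟨Nat.prime_two⟩
  -- Part 1: the normalizer is `P`
  have hNP : Subgroup.normalizer ((P : Subgroup G) : Set G) = (P : Subgroup G) := by
    apply le_antisymm _ Subgroup.le_normalizer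
    have hnorm : ((P : Subgroup G).subgroupOf
        (Subgroup.normalizer ((P : Subgroup G) : Set G))).Normal :=
      Subgroup.normal_in_normalizer
    have hoddQ : Odd (Nat.card (↥(Subgroup.normalizer ((P : Subgroup G) : Set G)) ⧸
        (P : Subgroup G).subgroupOf (Subgroup.normalizer ((P : Subgroup G) : Set G)))) := by
      rw [← Subgroup.index_eq_card]
      have h1 : ((P : Subgroup G).subgroupOf
          (Subgroup.normalizer ((P : Subgroup G) : Set G))).index ∣ (P : Subgroup G).index := by
        have := Subgroup.relIndex_mul_index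
          (Subgroup.le_normalizer (H := (P : Subgroup G)))
        exact Dvd.intro _ this
      have h2 : ¬ 2 ∣ (P : Subgroup G).index := P.not_dvd_index
      exact (Nat.not_even_iff_odd.mp (fun h => h2 (even_iff_two_dvd.mp h))).of_dvd_nat h1
    have hall' : ∀ μ : IrrCharacter (↥(Subgroup.normalizer ((P : Subgroup G) : Set G)) ⧸
        (P : Subgroup G).subgroupOf (Subgroup.normalizer ((P : Subgroup G) : Set G))),
        ∀ q, (μ.1 q).im = 0 := by
      intro μ q
      obtain ⟨g, rfl⟩ := QuotientGroup.mk_surjective q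
      have hdeg : Odd (charDegree μ.1) := hoddQ.of_dvd_nat (charDegree_dvd_card μ)
      have hdeg' : charDegree (infl ((P : Subgroup G).subgroupOf
          (Subgroup.normalizer ((P : Subgroup G) : Set G))) μ).1 = charDegree μ.1 := by
        unfold charDegree
        rw [show (infl ((P : Subgroup G).subgroupOf
          (Subgroup.normalizer ((P : Subgroup G) : Set G))) μ).1 1 = μ.1 1 from by
            rw [infl_apply, map_one]]
      have := hall (infl ((P : Subgroup G).subgroupOf
          (Subgroup.normalizer ((P : Subgroup G) : Set G))) μ) (by rw [hdeg']; exact hdeg) g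
      rw [infl_apply] at this
      exact this
    intro x hx
    have h1 := trivial_of_odd_real hoddQ hall'
      (QuotientGroup.mk (⟨x, hx⟩ : ↥(Subgroup.normalizer ((P : Subgroup G) : Set G))))
    have h2 := (QuotientGroup.eq_one_iff _).mp h1
    exact Subgroup.mem_subgroupOf.mp h2
  refine ⟨?_, hNP⟩
  -- Part 2: `P' = Φ(P)`
  apply le_antisymm (Cfsg.Agent.Lib.Helper70.FrattiniQuot.commutator_le_frattini P.isPGroup')
  intro x hx
  apply mem_commutator_of_hom
  intro f
  by_contra hfx
  -- `f` has real values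
  have hfreal : ∀ y : ↥(P : Subgroup G), (((f y : ℂˣ) : ℂ)).im = 0 := by
    intro y
    have hirr : IsIrrCharacter ↥(P : Subgroup G) (fun g => ((f g : ℂˣ) : ℂ)) :=
      Cfsg.Agent.Lib.CT.LinChar.isIrrCharacter_of_hom f
    have hsurj : Function.Surjective ((MulEquiv.subgroupCongr hNP).toMonoidHom) :=
      (MulEquiv.subgroupCongr hNP).surjective
    have hirr' := isIrrCharacter_comp hirr (MulEquiv.subgroupCongr hNP).toMonoidHom hsurj
    have hdeg : Odd (charDegree (fun x : ↥(Subgroup.normalizer ((P : Subgroup G) : Set G)) =>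
        ((f ((MulEquiv.subgroupCongr hNP).toMonoidHom x) : ℂˣ) : ℂ))) := by
      unfold charDegree
      simp
    obtain ⟨y', rfl⟩ := hsurj y
    exact hall ⟨_, hirr'⟩ hdeg y'
  have hval : ∀ y : ↥(P : Subgroup G), f y = 1 ∨ f y = -1 := by
    intro y
    refine real_root_unity (f y) (Nat.card ↥(P : Subgroup G)) Nat.card_pos.ne' ?_ (hfreal y)
    rw [← map_pow, pow_card_eq_one', map_one]
  exact not_mem_frattini f hval x hfx hx

end Cfsg.Agent.Lib.Helper79.RMNSYLA
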