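import Mathlib
import Cfsg.Agent.Lib.Helper42.ReeDegStmt

set_option autoImplicit false

/-! S2343 piece [EIG]: a common eigenvector of an abelian subgroup whose character is
nontrivial at `z`. -/

namespace Cfsg.Agent.Lib.Helper79.ReeDegEIG

open Cfsg.Agent.Lib.Helper42.ReeDegStmt

universe u

/-- a commuting family of endomorphisms of a finite-dimensional complex vector space has a
common eigenvector in every nonzero invariant subspace -/
theorem common_eigenvector {V : Type*} [AddCommGroup V] [Module ℂ V] [FiniteDimensional ℂ V]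
    (S : Set (Module.End ℂ V)) (hS : ∀ f ∈ S, ∀ g ∈ S, f * g = g * f) :
    ∀ (d : ℕ) (W : Submodule ℂ V), Module.finrank ℂ W = d → W ≠ ⊥ →
      (∀ f ∈ S, ∀ w ∈ W, f w ∈ W) →
      ∃ w ∈ W, w ≠ 0 ∧ ∀ f ∈ S, ∃ c : ℂ, f w = c • w := by
  intro d
  induction d using Nat.strong_induction_on with
  | _ d ih =>
    intro W hd hW hinv
    by_cases hsc : ∀ f ∈ S, ∃ c : ℂ, ∀ w ∈ W, f w = c • w
    · obtain ⟨w, hw, hw0⟩ := (Submodule.ne_bot_iff W).1 hW
      refine ⟨w, hw, hw0, fun f hf => ?_⟩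
      obtain ⟨c, hc⟩ := hsc f hf
      exact ⟨c, hc w hw⟩
    · push Not at hsc
      obtain ⟨f, hf, hfn⟩ := hsc
      have hmaps : ∀ w ∈ W, f w ∈ W := hinv f hf
      haveI : Nontrivial W := Submodule.nontrivial_iff_ne_bot.2 hW
      obtain ⟨c, hc⟩ := Module.End.exists_eigenvalue (f.restrict hmaps)
      obtain ⟨v, hv⟩ := hc.exists_hasEigenvector
      have hv1 : f v.1 = c • v.1 := by
        have h1 := hv.apply_eq_smul
        have h2 := congrArg Subtype.val h1
        simpa using h2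
      have hv0 : v.1 ≠ 0 := by
        intro h0
        exact hv.2 (Subtype.ext h0)
      obtain ⟨W', hW'⟩ : ∃ W' : Submodule ℂ V, W' = W ⊓ LinearMap.ker (f - c • (1 : Module.End ℂ V)) :=
        ⟨_, rfl⟩
      have hmem : ∀ w, w ∈ W' ↔ w ∈ W ∧ f w = c • w := by
        intro w
        rw [hW', Submodule.mem_inf, LinearMap.mem_ker]
        simp [sub_eq_zero]
      have hle : W' ≤ W := fun w hw => ((hmem w).1 hw).1
      obtain ⟨w₁, hw₁, hw₁n⟩ := hfn c
      have hlt : W' < W := by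
        refine lt_of_le_of_ne hle (fun h => ?_)
        rw [← h] at hw₁
        exact hw₁n ((hmem w₁).1 hw₁).2
      have hfin : Module.finrank ℂ W' < d := by
        rw [← hd]
        exact Submodule.finrank_lt_finrank_of_lt hlt
      have hW'0 : W' ≠ ⊥ := by
        intro h0
        have : v.1 ∈ W' := (hmem _).2 ⟨v.2, hv1⟩
        rw [h0, Submodule.mem_bot] at this
        exact hv0 this
      have hinv' : ∀ g ∈ S, ∀ w ∈ W', g w ∈ W' := by
        intro g hg w hw
        obtain ⟨hwW, hfw⟩ := (hmem w).1 hw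
        refine (hmem _).2 ⟨hinv g hg w hwW, ?_⟩
        have h1 : f (g w) = g (f w) := by
          have := congrArg (fun T : Module.End ℂ V => T w) (hS f hf g hg)
          simpa using this
        rw [h1, hfw, map_smul]
      obtain ⟨w, hw, hw0, hall⟩ := ih _ hfin W' rfl hW'0 hinv'
      exact ⟨w, hle hw, hw0, hall⟩

theorem main : EigP.{u} := by
  intro G _ _ A hcomm k ρ z hz hρz
  classical
  obtain ⟨n, hn⟩ : ∃ n : ℕ, n = orderOf z := ⟨_, rfl⟩
  have hn0 : 0 < n := by rw [hn]; exact orderOf_pos z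
  have hpow : ρ z ^ n = 1 := by
    rw [← map_pow, hn, pow_orderOf_eq_one, map_one]
  obtain ⟨N, hN⟩ : ∃ N : Module.End ℂ (Fin k → ℂ), N = ∑ i ∈ Finset.range n, ρ z ^ i := ⟨_, rfl⟩
  have hNz : N * (ρ z - 1) = 0 := by
    rw [hN, geom_sum_mul, hpow, sub_self]
  obtain ⟨W, hW⟩ : ∃ W : Submodule ℂ (Fin k → ℂ), W = LinearMap.range (ρ z - 1) := ⟨_, rfl⟩
  have hW0 : W ≠ ⊥ := by
    rw [hW]
    intro h0
    rw [LinearMap.range_eq_bot, sub_eq_zero] at h0
    exact hρz h0
  obtain ⟨S, hSdef⟩ : ∃ S : Set (Module.End ℂ (Fin k → ℂ)), S = {f | ∃ a ∈ A, f = ρ a} :=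
    ⟨_, rfl⟩
  have hS : ∀ f ∈ S, ∀ g ∈ S, f * g = g * f := by
    intro f hf g hg
    rw [hSdef] at hf hg
    obtain ⟨a, ha, rfl⟩ := hf
    obtain ⟨b, hb, rfl⟩ := hg
    rw [← map_mul, ← map_mul, hcomm a ha b hb]
  have hinv : ∀ f ∈ S, ∀ w ∈ W, f w ∈ W := by
    intro f hf w hw
    rw [hSdef] at hf
    obtain ⟨a, ha, rfl⟩ := hf
    rw [hW] at hw ⊢
    obtain ⟨v, rfl⟩ := hw
    refine ⟨ρ a v, ?_⟩
    have h1 : ρ a * ρ z = ρ z * ρ a := by
      rw [← map_mul, ← map_mul, hcomm a ha z hz]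
    have h2 : ρ a (ρ z v) = ρ z (ρ a v) := by
      have := congrArg (fun T : Module.End ℂ (Fin k → ℂ) => T v) h1
      simpa using this
    simp [h2]
  obtain ⟨w, hwW, hw0, hall⟩ := common_eigenvector S hS _ W rfl hW0 hinv
  have hex : ∀ a : G, a ∈ A → ∃ c : ℂ, ρ a w = c • w := fun a ha => hall _ (by
    rw [hSdef]; exact ⟨a, ha, rfl⟩)
  refine ⟨fun g => if h : g ∈ A then Classical.choose (hex g h) else 0, w, hw0, ?_, ?_⟩
  · intro a ha
    simp only [dif_pos ha]
    exact Classical.choose_spec (hex a ha)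
  · simp only [dif_pos hz]
    intro h1
    have hzw : ρ z w = w := by
      have := Classical.choose_spec (hex z hz)
      rw [h1, one_smul] at this
      exact this
    have hpw : ∀ i : ℕ, (ρ z ^ i) w = w := by
      intro i
      induction i with
      | zero => simp
      | succ i ih => rw [pow_succ, Module.End.mul_apply, hzw, ih]
    have hNw : N w = (n : ℂ) • w := by
      rw [hN, LinearMap.sum_apply]
      simp [hpw, Finset.sum_const, Nat.cast_smul_eq_nsmul]
    have hNw0 : N w = 0 := by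
      rw [hW] at hwW
      obtain ⟨v, rfl⟩ := hwW
      have := congrArg (fun T : Module.End ℂ (Fin k → ℂ) => T v) hNz
      simpa using this
    rw [hNw0] at hNw
    have h3 := smul_eq_zero.1 hNw.symm
    rcases h3 with h3 | h3
    · exact hn0.ne' (Nat.cast_eq_zero.1 h3)
    · exact hw0 h3
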