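import Mathlib
import Cfsg.Agent.Lib.Helper61.T2Stmt

set_option autoImplicit false

/-! S2197 piece [JORDAN]: a 2-transitive group of degree `n ≥ 16` containing an element of
order 13 with exactly `n - 13` fixed points is 3-transitive (Jordan), so `n (n-1) (n-2)` divides
the group order. -/

namespace Cfsg.Agent.Lib.Helper79.T2JORDAN

open Cfsg.Agent.Lib.Helper61.T2Stmt MulAction

universe u v

theorem pow_fix {G : Type*} [Group G] {Ω : Type*} [MulAction G Ω] (g : G) (a : Ω)
    (h : g • a = a) (m : ℕ) : g ^ m • a = a := by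
  induction m with
  | zero => simp
  | succ m ih => rw [pow_succ, mul_smul, h, ih]

/-- an element of order 13 moving `a` acts freely on its orbit -/
theorem pow_inj {G : Type*} [Group G] {Ω : Type*} [MulAction G Ω] (x : G)
    (hx : orderOf x = 13) (a : Ω) (ha : x • a ≠ a) (i j : ℕ) (hi : i < 13) (hj : j < 13)
    (hij : i ≤ j) (h : x ^ i • a = x ^ j • a) : i = j := by
  by_contra hne
  have hd : 0 < j - i := by omega
  have hd13 : j - i < 13 := by omega
  have hfix : x ^ (j - i) • a = a := by
    have h1 : x ^ j = x ^ i * x ^ (j - i) := by rw [← pow_add]; congr 1; omega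
    rw [h1, mul_smul] at h
    exact (smul_left_cancel _ h).symm
  have hcop : Nat.Coprime (j - i) 13 := by
    rw [Nat.coprime_comm, Nat.Prime.coprime_iff_not_dvd (by norm_num)]
    intro hdvd
    have := Nat.le_of_dvd hd hdvd
    omega
  obtain ⟨m, -, hm⟩ := Nat.exists_mul_mod_eq_one_of_coprime hcop (by norm_num)
  have h2 : (x ^ (j - i)) ^ m = x := by
    rw [← pow_mul, ← pow_mod_orderOf, hx, hm, pow_one]
  apply ha
  have h3 := pow_fix (x ^ (j - i)) a hfix m
  rw [h2] at h3
  exact h3

theorem main : Jordan.{u, v} := by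
  intro G _ _ Ω _ _ hfaith h2 x hx hfix h16
  classical
  obtain ⟨s, hs⟩ : ∃ s : Set Ω, s = {ω | x • ω = ω} := ⟨_, rfl⟩
  have hscard : s.ncard + 13 = Fintype.card Ω := by
    rw [← hfix, hs]
    congr 1
  have hprimG : IsPreprimitive G Ω := isPreprimitive_of_is_two_pretransitive h2
  have hxfix : x ∈ fixingSubgroup G s := by
    rw [mem_fixingSubgroup_iff]
    intro y hy
    rw [hs] at hy
    exact hy
  have hcompl : Nat.card (SubMulAction.ofFixingSubgroup G s) = 13 := by
    have h1 : Nat.card (SubMulAction.ofFixingSubgroup G s) = (sᶜ).ncard :=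
      Nat.card_coe_set_eq (sᶜ)
    rw [h1, Set.ncard_compl, Nat.card_eq_fintype_card]
    omega
  have hmem : ∀ a : Ω, a ∈ SubMulAction.ofFixingSubgroup G s ↔ x • a ≠ a := by
    intro a
    rw [SubMulAction.mem_ofFixingSubgroup_iff, hs]
    rfl
  have htrans : IsPretransitive (fixingSubgroup G s) (SubMulAction.ofFixingSubgroup G s) := by
    rw [isPretransitive_iff]
    intro a b
    have ha : x • (a : Ω) ≠ (a : Ω) := (hmem _).mp a.2
    have hpm : ∀ i : ℕ, x ^ i • (a : Ω) ∈ SubMulAction.ofFixingSubgroup G s := by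
      intro i
      rw [hmem]
      intro h
      apply ha
      rw [← mul_smul, ← pow_succ', pow_succ, mul_smul] at h
      exact smul_left_cancel _ h
    obtain ⟨φ, hφ⟩ : ∃ φ : Fin 13 → ↥(SubMulAction.ofFixingSubgroup G s),
        ∀ i : Fin 13, ((φ i : ↥(SubMulAction.ofFixingSubgroup G s)) : Ω) =
          x ^ (i : ℕ) • (a : Ω) :=
      ⟨fun i => ⟨x ^ (i : ℕ) • (a : Ω), hpm i⟩, fun i => rfl⟩
    have hinj : Function.Injective φ := by
      intro i j hij
      have h1 : x ^ (i : ℕ) • (a : Ω) = x ^ (j : ℕ) • (a : Ω) := by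
        rw [← hφ i, ← hφ j, hij]
      apply Fin.ext
      rcases le_total (i : ℕ) (j : ℕ) with hle | hle
      · exact pow_inj x hx (a : Ω) ha i j i.2 j.2 hle h1
      · exact (pow_inj x hx (a : Ω) ha j i j.2 i.2 hle h1.symm).symm
    have hbij : Function.Bijective φ := by
      apply Function.Injective.bijective_of_nat_card_le hinj
      rw [hcompl]
      simp
    obtain ⟨i, hi⟩ := hbij.2 b
    refine ⟨(⟨x, hxfix⟩ : ↥(fixingSubgroup G s)) ^ (i : ℕ), ?_⟩
    rw [← hi]
    apply Subtype.ext
    rw [hφ i]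
    rfl
  have hprim : IsPreprimitive (fixingSubgroup G s) (SubMulAction.ofFixingSubgroup G s) :=
    IsPreprimitive.of_prime_card (by rw [hcompl]; norm_num)
  have hmp := hprimG.isMultiplyPreprimitive (s := s) (n := Fintype.card Ω - 14) (by omega)
    (by rw [Nat.card_eq_fintype_card]; omega) hprim
  have hmt : IsMultiplyPretransitive G Ω (Fintype.card Ω - 14 + 2) :=
    IsMultiplyPreprimitive.isMultiplyPretransitive G Ω _
  have h3 : IsMultiplyPretransitive G Ω 3 :=
    isMultiplyPretransitive_of_le (n := Fintype.card Ω - 14 + 2) (by omega)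
      (by rw [Nat.card_eq_fintype_card]; omega)
  obtain ⟨e⟩ : Nonempty (Fin 3 ↪ Ω) :=
    Function.Embedding.nonempty_of_card_le (by rw [Fintype.card_fin]; omega)
  have hidx : (stabilizer G e).index = Nat.card (Fin 3 ↪ Ω) :=
    index_stabilizer_of_transitive (G := G) (x := e)
  have hdvd : (stabilizer G e).index ∣ Nat.card G := Subgroup.index_dvd_card _
  rw [hidx, Nat.card_eq_fintype_card, Fintype.card_embedding_eq, Fintype.card_fin] at hdvd
  have h4 : (Fintype.card Ω).descFactorial 3 =
      Fintype.card Ω * (Fintype.card Ω - 1) * (Fintype.card Ω - 2) := by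
    simp [Nat.descFactorial]
    ring
  rw [h4] at hdvd
  exact hdvd

end Cfsg.Agent.Lib.Helper79.T2JORDAN
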