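import Mathlib
import Cfsg.Agent.Lib.Helper39.TLStmt

set_option autoImplicit false
set_option linter.unusedVariables false
set_option linter.unusedSectionVars false
set_option warn.classDefReducibility false

/-!
# Common core for the pieces PW5 / PW7 of S4404 (helper79)
-/

namespace Cfsg.Agent.Lib.Helper79.TLCore

open Cfsg Cfsg.Agent.Lib.Helper39.TLStmt

universe u

variable {S : Type u} [Group S]

theorem comm_of {M : Subgroup S} (hM : IsElementaryAbelian 2 M) {a b : S} (ha : a ∈ M)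
    (hb : b ∈ M) : a * b = b * a := by
  have := hM.1.is_comm.comm ⟨a, ha⟩ ⟨b, hb⟩
  exact congrArg Subtype.val this

theorem isP2 {M : Subgroup S} (hM : IsElementaryAbelian 2 M) : IsPGroup 2 M := by
  intro g
  refine ⟨1, ?_⟩
  apply Subtype.ext
  simpa using hM.2 g.1 g.2

theorem card_pow_two [Finite S] {M : Subgroup S} (hM : IsElementaryAbelian 2 M) {H : Subgroup S}
    (hH : H ≤ M) : ∃ n : ℕ, Nat.card H = 2 ^ n :=
  IsPGroup.iff_card.mp ((isP2 hM).to_le hH)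

theorem conj_mem {M : Subgroup S} {x : S} {W : Subgroup S} (hx : IsRefl M x W) {w : S}
    (hw : w ∈ W) : x * w * x⁻¹ ∈ W := by
  have h := W.mul_mem (hx.comm w (hx.le hw)) hw
  simpa [mul_assoc] using h

theorem surj [Finite S] {M : Subgroup S} (hM : IsElementaryAbelian 2 M) {x : S}
    {W : Subgroup S} (hx : IsRefl M x W) {w : S} (hw : w ∈ W) :
    ∃ v ∈ W, w = x * v * x⁻¹ * v⁻¹ := by
  let f : W → W := fun v => ⟨x * v.1 * x⁻¹ * v.1⁻¹, hx.comm v.1 (hx.le v.2)⟩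
  have hinj : Function.Injective f := by
    intro a b hab
    have h1 : x * a.1 * x⁻¹ * a.1⁻¹ = x * b.1 * x⁻¹ * b.1⁻¹ := congrArg Subtype.val hab
    have ha := hx.le a.2
    have hb := hx.le b.2
    have hxb : x * b.1 * x⁻¹ ∈ M := hx.le (conj_mem hx b.2)
    have h2 : x * (a.1 * b.1⁻¹) * x⁻¹ = a.1 * b.1⁻¹ := by
      have h3 : x * a.1 * x⁻¹ = x * b.1 * x⁻¹ * b.1⁻¹ * a.1 := by
        rw [← h1]; group
      have h4 : x * (a.1 * b.1⁻¹) * x⁻¹ = (x * a.1 * x⁻¹) * (x * b.1 * x⁻¹)⁻¹ := by group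
      rw [h4, h3]
      have hc := comm_of hM (M.mul_mem (M.inv_mem hb) ha) (M.inv_mem hxb)
      calc x * b.1 * x⁻¹ * b.1⁻¹ * a.1 * (x * b.1 * x⁻¹)⁻¹
          = x * b.1 * x⁻¹ * ((b.1⁻¹ * a.1) * (x * b.1 * x⁻¹)⁻¹) := by group
        _ = x * b.1 * x⁻¹ * ((x * b.1 * x⁻¹)⁻¹ * (b.1⁻¹ * a.1)) := by rw [hc]
        _ = b.1⁻¹ * a.1 := by group
        _ = a.1 * b.1⁻¹ := comm_of hM (M.inv_mem hb) ha
    have h5 := hx.fix _ (W.mul_mem a.2 (W.inv_mem b.2)) h2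
    apply Subtype.ext
    exact mul_inv_eq_one.mp h5
  have hsurj := Finite.injective_iff_surjective.mp hinj
  obtain ⟨v, hv⟩ := hsurj ⟨w, hw⟩
  exact ⟨v.1, v.2, (congrArg Subtype.val hv).symm⟩

theorem refl_eq [Finite S] {M : Subgroup S} (hM : IsElementaryAbelian 2 M) {x x' : S}
    {W W' : Subgroup S} (hx : IsRefl M x W) (hx' : IsRefl M x' W')
    (h : ∀ w ∈ W, x' * w * x'⁻¹ = x * w * x⁻¹) : W = W' := by
  have hle : W ≤ W' := by
    intro w hw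
    obtain ⟨v, hv, rfl⟩ := surj hM hx hw
    rw [← h v hv]
    exact hx'.comm v (hx.le hv)
  exact Subgroup.eq_of_le_of_card_ge hle (by rw [hx.card, hx'.card])

theorem dich [Finite S] {M : Subgroup S} {x : S} {W : Subgroup S} (hx : IsRefl M x W)
    (C : Subgroup S) (hCM : C ≤ M) (hC : ∀ u ∈ C, x * u * x⁻¹ ∈ C) :
    (∀ u ∈ C, x * u * x⁻¹ = u) ∨ W ≤ C := by
  by_contra hcon
  push_neg at hcon
  obtain ⟨⟨u, hu, hne⟩, hWC⟩ := hcon
  have hwW : x * u * x⁻¹ * u⁻¹ ∈ W := hx.comm u (hCM hu)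
  have hwC : x * u * x⁻¹ * u⁻¹ ∈ C := C.mul_mem (hC u hu) (C.inv_mem hu)
  have hw1 : x * u * x⁻¹ * u⁻¹ ≠ 1 := fun h => hne (mul_inv_eq_one.mp h)
  obtain ⟨w, hw⟩ : ∃ w, w = x * u * x⁻¹ * u⁻¹ := ⟨_, rfl⟩
  rw [← hw] at hwW hwC hw1
  have hfix : x * w * x⁻¹ ≠ w := fun h => hw1 (hx.fix w hwW h)
  have hdvd : Nat.card ↥(W ⊓ C) ∣ 4 := by
    rw [← hx.card]; exact Subgroup.card_dvd_of_le inf_le_left
  have hle : Nat.card ↥(W ⊓ C) ≤ 4 := Nat.le_of_dvd (by norm_num) hdvd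
  have hpos : 0 < Nat.card ↥(W ⊓ C) := Nat.card_pos
  have hmem : w ∈ W ⊓ C := Subgroup.mem_inf.mpr ⟨hwW, hwC⟩
  have hmem' : x * w * x⁻¹ ∈ W ⊓ C := Subgroup.mem_inf.mpr ⟨conj_mem hx hwW, hC w hwC⟩
  have h1 : Nat.card ↥(W ⊓ C) ≠ 1 := by
    intro h
    rw [Subgroup.card_eq_one] at h
    rw [h, Subgroup.mem_bot] at hmem
    exact hw1 hmem
  have h2 : Nat.card ↥(W ⊓ C) ≠ 2 := by
    intro h
    obtain ⟨y, hy, huniq⟩ := (Nat.card_eq_two_iff' (1 : ↥(W ⊓ C))).mp h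
    have e1 := huniq ⟨w, hmem⟩ (fun h => hw1 (congrArg Subtype.val h))
    have e2 := huniq ⟨x * w * x⁻¹, hmem'⟩ (fun h => hw1 (conj_eq_one_iff.mp (congrArg Subtype.val h)))
    exact hfix (congrArg Subtype.val (e2.trans e1.symm))
  have h3 : Nat.card ↥(W ⊓ C) ≠ 3 := by
    intro h; rw [h] at hdvd; omega
  have h4 : Nat.card ↥(W ⊓ C) = 4 := by omega
  have : W ⊓ C = W := Subgroup.eq_of_le_of_card_ge inf_le_left (by rw [hx.card, h4])
  exact hWC (inf_eq_left.mp this)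

/-- elements acting trivially on `M / U` -/
def T (M U : Subgroup S) [hMn : M.Normal] (hU : U ≤ M) : Subgroup S where
  carrier := {g | ∀ m ∈ M, g * m * g⁻¹ * m⁻¹ ∈ U}
  one_mem' := by
    intro m hm
    simp
  mul_mem' := by
    intro g h hg hh m hm
    have hu := hh m hm
    have h1 := hg _ (hU hu)
    have h2 := hg m hm
    have e : g * h * m * (g * h)⁻¹ * m⁻¹ =
        (g * (h * m * h⁻¹ * m⁻¹) * g⁻¹ * (h * m * h⁻¹ * m⁻¹)⁻¹) * (h * m * h⁻¹ * m⁻¹) *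
          (g * m * g⁻¹ * m⁻¹) := by group
    rw [e]
    exact U.mul_mem (U.mul_mem h1 hu) h2
  inv_mem' := by
    intro g hg m hm
    have hm' : g⁻¹ * m * g ∈ M := by
      have := hMn.conj_mem m hm g⁻¹
      simpa using this
    have h1 := U.inv_mem (hg _ hm')
    have e : g⁻¹ * m * g⁻¹⁻¹ * m⁻¹ = (g * (g⁻¹ * m * g) * g⁻¹ * (g⁻¹ * m * g)⁻¹)⁻¹ := by group
    rw [e]
    exact h1

theorem mem_T {M U : Subgroup S} [M.Normal] (hU : U ≤ M) {g : S} :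
    g ∈ T M U hU ↔ ∀ m ∈ M, g * m * g⁻¹ * m⁻¹ ∈ U := Iff.rfl

theorem T_norm {M U : Subgroup S} [M.Normal] (hU : U ≤ M) {g : S} (hg : g ∈ T M U hU) {u : S}
    (hu : u ∈ U) : g * u * g⁻¹ ∈ U := by
  have h := U.mul_mem (hg u (hU hu)) hu
  simpa [mul_assoc] using h

/-- conjugation action of a subgroup `D` on a subgroup `U` it normalizes -/
def conjAct (D U : Subgroup S) (h : ∀ d ∈ D, ∀ u ∈ U, d * u * d⁻¹ ∈ U) : MulAction D U where
  smul d u := ⟨d.1 * u.1 * d.1⁻¹, h d.1 d.2 u.1 u.2⟩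
  one_smul u := by
    apply Subtype.ext
    show (1 : D).1 * u.1 * (1 : D).1⁻¹ = u.1
    simp
  mul_smul a b u := by
    apply Subtype.ext
    show (a * b).1 * u.1 * (a * b).1⁻¹ = a.1 * (b.1 * u.1 * b.1⁻¹) * a.1⁻¹
    simp [mul_assoc]

theorem fp [Finite S] (p : ℕ) [Fact p.Prime] (D U : Subgroup S) (hD : IsPGroup p D)
    (h : ∀ d ∈ D, ∀ u ∈ U, d * u * d⁻¹ ∈ U) :
    Nat.card U ≡ Nat.card ↥(U ⊓ Subgroup.centralizer (D : Set S)) [MOD p] := by
  let _inst := conjAct D U h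
  have h1 := hD.card_modEq_card_fixedPoints U
  have h2 : Nat.card (MulAction.fixedPoints D U) =
      Nat.card ↥(U ⊓ Subgroup.centralizer (D : Set S)) := by
    apply Nat.card_congr
    refine ⟨fun u => ⟨u.1.1, Subgroup.mem_inf.mpr ⟨u.1.2, ?_⟩⟩,
      fun u => ⟨⟨u.1, (Subgroup.mem_inf.mp u.2).1⟩, ?_⟩, fun u => rfl, fun u => rfl⟩
    · rw [Subgroup.mem_centralizer_iff]
      intro d hd
      have := u.2 ⟨d, hd⟩
      have h3 : d * u.1.1 * d⁻¹ = u.1.1 := congrArg Subtype.val this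
      exact eq_mul_of_mul_inv_eq h3
    · intro d
      apply Subtype.ext
      show d.1 * u.1 * d.1⁻¹ = u.1
      have := (Subgroup.mem_centralizer_iff.mp (Subgroup.mem_inf.mp u.2).2) d.1 d.2
      rw [this]; group
  rw [← h2]; exact h1

theorem card_sup_le' [Finite S] {M : Subgroup S} (hM : IsElementaryAbelian 2 M)
    {H K : Subgroup S} (hH : H ≤ M) (hK : K ≤ M) :
    Nat.card ↥(H ⊔ K) ≤ Nat.card H * Nat.card K := by
  let P : Subgroup S :=
    { carrier := {s | ∃ h ∈ H, ∃ k ∈ K, s = h * k}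
      one_mem' := ⟨1, H.one_mem, 1, K.one_mem, by simp⟩
      mul_mem' := by
        rintro _ _ ⟨h, hh, k, hk, rfl⟩ ⟨h', hh', k', hk', rfl⟩
        refine ⟨h * h', H.mul_mem hh hh', k * k', K.mul_mem hk hk', ?_⟩
        have := comm_of hM (hK hk) (hH hh')
        calc h * k * (h' * k') = h * (k * h') * k' := by group
          _ = h * (h' * k) * k' := by rw [this]
          _ = h * h' * (k * k') := by group
      inv_mem' := by
        rintro _ ⟨h, hh, k, hk, rfl⟩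
        refine ⟨h⁻¹, H.inv_mem hh, k⁻¹, K.inv_mem hk, ?_⟩
        have := comm_of hM (M.inv_mem (hK hk)) (M.inv_mem (hH hh))
        rw [mul_inv_rev, this] }
  have hle : H ⊔ K ≤ P :=
    sup_le (fun h hh => ⟨h, hh, 1, K.one_mem, by simp⟩) (fun k hk => ⟨1, H.one_mem, k, hk, by simp⟩)
  have h1 : Nat.card ↥(H ⊔ K) ≤ Nat.card P := Subgroup.card_le_of_le hle
  have h2 : Nat.card P ≤ Nat.card (H × K) := by
    apply Nat.card_le_card_of_surjective
      (fun hk : H × K => (⟨hk.1.1 * hk.2.1, hk.1.1, hk.1.2, hk.2.1, hk.2.2, rfl⟩ : P))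
    rintro ⟨_, h, hh, k, hk, rfl⟩
    exact ⟨(⟨h, hh⟩, ⟨k, hk⟩), rfl⟩
  rw [Nat.card_prod] at h2
  exact h1.trans h2

theorem eq_one_of_pow {a : S} {m n : ℕ} (hm : a ^ m = 1) (hn : a ^ n = 1) (hc : Nat.Coprime m n) :
    a = 1 := by
  have h1 := orderOf_dvd_of_pow_eq_one hm
  have h2 := orderOf_dvd_of_pow_eq_one hn
  have h3 : orderOf a ∣ 1 := by
    have := Nat.dvd_gcd h1 h2
    rwa [hc] at this
  exact orderOf_eq_one_iff.mp (Nat.dvd_one.mp h3)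

theorem inv_norm [Finite S] {x : S} {Y : Subgroup S} (hxY : ∀ y ∈ Y, x * y * x⁻¹ ∈ Y) :
    ∀ y ∈ Y, x⁻¹ * y * x ∈ Y := by
  let f : Y → Y := fun y => ⟨x * y.1 * x⁻¹, hxY y.1 y.2⟩
  have hinj : Function.Injective f := by
    intro a b hab
    have h1 : x * a.1 * x⁻¹ = x * b.1 * x⁻¹ := congrArg Subtype.val hab
    apply Subtype.ext
    simpa using h1
  have hsurj := Finite.injective_iff_surjective.mp hinj
  intro y hy
  obtain ⟨v, hv⟩ := hsurj ⟨y, hy⟩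
  have h2 : x * v.1 * x⁻¹ = y := congrArg Subtype.val hv
  rw [← h2]
  have : x⁻¹ * (x * v.1 * x⁻¹) * x = v.1 := by group
  rw [this]
  exact v.2

theorem zpow_norm [Finite S] {x : S} {Y : Subgroup S} (hxY : ∀ y ∈ Y, x * y * x⁻¹ ∈ Y) (i : ℤ) :
    ∀ y ∈ Y, x ^ i * y * (x ^ i)⁻¹ ∈ Y := by
  induction i using Int.induction_on with
  | zero => intro y hy; simpa using hy
  | succ i ih =>
    intro y hy
    have := ih _ (hxY y hy)
    have e : x ^ ((i : ℤ) + 1) * y * (x ^ ((i : ℤ) + 1))⁻¹ = x ^ (i : ℤ) * (x * y * x⁻¹) * (x ^ (i : ℤ))⁻¹ := by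
      rw [zpow_add_one]; group
    rw [e]; exact this
  | pred i ih =>
    intro y hy
    have := ih _ (inv_norm hxY y hy)
    have e : x ^ (-(i : ℤ) - 1) * y * (x ^ (-(i : ℤ) - 1))⁻¹ =
        x ^ (-(i : ℤ)) * (x⁻¹ * y * x) * (x ^ (-(i : ℤ)))⁻¹ := by
      rw [zpow_sub_one]; group
    rw [e]; exact this

theorem odd_closure [Finite S] (p : ℕ) [Fact p.Prime] (hp2 : p ≠ 2) (hp3 : p ≠ 3) (x : S)
    (hx3 : ∃ k : ℕ, x ^ 3 ^ k = 1) (Y : Subgroup S) (hY : IsPGroup p Y)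
    (hxY : ∀ y ∈ Y, x * y * x⁻¹ ∈ Y) :
    Odd (Nat.card ↥(Subgroup.closure ({x} ∪ (Y : Set S)))) := by
  have hp : p.Prime := Fact.out
  have hform : ∀ g ∈ Subgroup.closure ({x} ∪ (Y : Set S)), ∃ i : ℤ, ∃ y ∈ Y, g = x ^ i * y := by
    intro g hg
    induction hg using Subgroup.closure_induction with
    | mem g hg =>
      rcases hg with hg | hg
      · exact ⟨1, 1, Y.one_mem, by rw [Set.mem_singleton_iff.mp hg]; simp⟩
      · exact ⟨0, g, hg, by simp⟩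
    | one => exact ⟨0, 1, Y.one_mem, by simp⟩
    | mul a b ha hb iha ihb =>
      obtain ⟨i, y, hy, rfl⟩ := iha
      obtain ⟨j, y', hy', rfl⟩ := ihb
      refine ⟨i + j, x ^ (-j) * y * (x ^ (-j))⁻¹ * y', Y.mul_mem (zpow_norm hxY (-j) y hy) hy', ?_⟩
      rw [zpow_add, zpow_neg]; group
    | inv a ha iha =>
      obtain ⟨i, y, hy, rfl⟩ := iha
      refine ⟨-i, x ^ i * y⁻¹ * (x ^ i)⁻¹, zpow_norm hxY i _ (Y.inv_mem hy), ?_⟩
      rw [zpow_neg]; group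
  by_contra hodd
  have heven : 2 ∣ Nat.card ↥(Subgroup.closure ({x} ∪ (Y : Set S))) := by
    rcases Nat.even_or_odd (Nat.card ↥(Subgroup.closure ({x} ∪ (Y : Set S)))) with h | h
    · exact even_iff_two_dvd.mp h
    · exact absurd h hodd
  have : Fact (Nat.Prime 2) := ⟨Nat.prime_two⟩
  obtain ⟨g, hg⟩ := exists_prime_orderOf_dvd_card' 2 heven
  obtain ⟨i, y, hy, hgi⟩ := hform g.1 g.2
  have hg2 : g.1 * g.1 = 1 := by
    have : g ^ 2 = 1 := by rw [← hg]; exact pow_orderOf_eq_one g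
    have h : (g * g).1 = (1 : ↥(Subgroup.closure ({x} ∪ (Y : Set S)))).1 := by
      rw [← pow_two, this]
    exact h
  obtain ⟨k, hk⟩ := hx3
  obtain ⟨j, hj⟩ := hY ⟨y, hy⟩
  have hyj : y ^ p ^ j = 1 := by simpa using congrArg Subtype.val hj
  -- x^(2i) ∈ Y
  have hmemY : x ^ i * x ^ i ∈ Y := by
    have e : x ^ i * x ^ i = (((x ^ i)⁻¹ * y * ((x ^ i)⁻¹)⁻¹) * y)⁻¹ := by
      have h0 : x ^ i * y * (x ^ i * y) = 1 := by rw [← hgi]; exact hg2
      have : x ^ i * x ^ i * (((x ^ i)⁻¹ * y * ((x ^ i)⁻¹)⁻¹) * y) = 1 := by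
        rw [← h0]; group
      exact eq_inv_of_mul_eq_one_left this
    rw [e]
    apply Y.inv_mem
    apply Y.mul_mem _ hy
    have := zpow_norm hxY (-i) y hy
    rwa [zpow_neg] at this
  obtain ⟨j', hj'⟩ := hY ⟨x ^ i * x ^ i, hmemY⟩
  have hj'' : (x ^ i * x ^ i) ^ p ^ j' = 1 := by simpa using congrArg Subtype.val hj'
  have hcomm : Commute x (x ^ i) := (Commute.refl x).zpow_right i
  have hxi3 : (x ^ i) ^ 3 ^ k = 1 := by
    rw [← zpow_natCast, ← zpow_mul, mul_comm, zpow_mul, zpow_natCast, hk, one_zpow]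
  have hcop3p : Nat.Coprime (3 ^ k) (p ^ j') := by
    apply Nat.Coprime.pow
    exact (Nat.coprime_primes Nat.prime_three hp).mpr (Ne.symm hp3)
  have hxx : x ^ i * x ^ i = 1 := by
    apply eq_one_of_pow _ hj'' hcop3p
    rw [(Commute.refl (x ^ i)).mul_pow, hxi3, one_mul]
  have hxi : x ^ i = 1 := by
    apply eq_one_of_pow (m := 2) (n := 3 ^ k) _ hxi3
    · apply Nat.Coprime.pow_right
      norm_num
    · rw [pow_two]; exact hxx
  have hgy : g.1 = y := by rw [hgi, hxi, one_mul]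
  have hy1 : y = 1 := by
    apply eq_one_of_pow (m := 2) (n := p ^ j) _ hyj
    · apply Nat.Coprime.pow_right
      exact (Nat.coprime_primes Nat.prime_two hp).mpr (Ne.symm hp2)
    · rw [pow_two, ← hgy]; exact hg2
  have hg1 : g = 1 := by
    apply Subtype.ext
    rw [hgy, hy1]; rfl
  rw [hg1, orderOf_one] at hg
  omega

theorem lemmaG [Finite S] (hCop : Cop.{u}) (hConj : Conj.{u}) {M : Subgroup S} [M.Normal]
    (hM : IsElementaryAbelian 2 M) (p : ℕ) [Fact p.Prime] (hp2 : p ≠ 2) (hp3 : p ≠ 3)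
    (Y : Subgroup S) (hY : IsPGroup p Y) (x : S) (W : Subgroup S) (hx3 : ∃ k : ℕ, x ^ 3 ^ k = 1)
    (hx : IsRefl M x W) (hxY : ∀ y ∈ Y, x * y * x⁻¹ ∈ Y) (y₁ y₂ : S) (hy₁ : y₁ ∈ Y)
    (hy₂ : y₂ ∈ Y) :
    (W.map (MulAut.conj y₁).toMonoidHom = W ∧ W.map (MulAut.conj y₂).toMonoidHom = W) ∨
      Nat.card ↥(W ⊔ W.map (MulAut.conj y₁).toMonoidHom ⊔ W.map (MulAut.conj y₂).toMonoidHom)
        ≡ 1 [MOD p] := by
  have h1 : IsRefl M (y₁ * x * y₁⁻¹) (W.map (MulAut.conj y₁).toMonoidHom) := hConj S M x W y₁ hx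
  have h2 : IsRefl M (y₂ * x * y₂⁻¹) (W.map (MulAut.conj y₂).toMonoidHom) := hConj S M x W y₂ hx
  obtain ⟨W₁, hW₁⟩ : ∃ W₁, W₁ = W.map (MulAut.conj y₁).toMonoidHom := ⟨_, rfl⟩
  obtain ⟨W₂, hW₂⟩ : ∃ W₂, W₂ = W.map (MulAut.conj y₂).toMonoidHom := ⟨_, rfl⟩
  rw [← hW₁] at h1 ⊢
  rw [← hW₂] at h2 ⊢
  have hU : W ⊔ W₁ ⊔ W₂ ≤ M := sup_le (sup_le hx.le h1.le) h2.le
  obtain ⟨U, hUdef⟩ : ∃ U, U = W ⊔ W₁ ⊔ W₂ := ⟨_, rfl⟩
  rw [← hUdef] at hU ⊢
  have hWU : W ≤ U := by rw [hUdef]; exact le_sup_of_le_left le_sup_left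
  have hW₁U : W₁ ≤ U := by rw [hUdef]; exact le_sup_of_le_left le_sup_right
  have hW₂U : W₂ ≤ U := by rw [hUdef]; exact le_sup_right
  have hxT : x ∈ T M U hU := fun m hm => hWU (hx.comm m hm)
  have hx1T : y₁ * x * y₁⁻¹ ∈ T M U hU := fun m hm => hW₁U (h1.comm m hm)
  have hx2T : y₂ * x * y₂⁻¹ ∈ T M U hU := fun m hm => hW₂U (h2.comm m hm)
  have hinvY := inv_norm hxY
  have hc1Y : y₁ * x * y₁⁻¹ * x⁻¹ ∈ Y := by
    have := Y.mul_mem hy₁ (hxY _ (Y.inv_mem hy₁))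
    simpa [mul_assoc] using this
  have hc2Y : y₂ * x * y₂⁻¹ * x⁻¹ ∈ Y := by
    have := Y.mul_mem hy₂ (hxY _ (Y.inv_mem hy₂))
    simpa [mul_assoc] using this
  obtain ⟨D, hD⟩ : ∃ D, D = Y ⊓ T M U hU := ⟨_, rfl⟩
  have hDY : D ≤ Y := by rw [hD]; exact inf_le_left
  have hDT : D ≤ T M U hU := by rw [hD]; exact inf_le_right
  have hc1D : y₁ * x * y₁⁻¹ * x⁻¹ ∈ D := by
    rw [hD]
    exact Subgroup.mem_inf.mpr ⟨hc1Y, (T M U hU).mul_mem hx1T ((T M U hU).inv_mem hxT)⟩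
  have hc2D : y₂ * x * y₂⁻¹ * x⁻¹ ∈ D := by
    rw [hD]
    exact Subgroup.mem_inf.mpr ⟨hc2Y, (T M U hU).mul_mem hx2T ((T M U hU).inv_mem hxT)⟩
  have hDp : IsPGroup p D := hY.to_le hDY
  have hDU : ∀ d ∈ D, ∀ u ∈ U, d * u * d⁻¹ ∈ U := fun d hd u hu => T_norm hU (hDT hd) hu
  have hxD : ∀ d ∈ D, x⁻¹ * d * x ∈ D := by
    intro d hd
    rw [hD]
    refine Subgroup.mem_inf.mpr ⟨hinvY d (hDY hd), ?_⟩
    exact (T M U hU).mul_mem ((T M U hU).mul_mem ((T M U hU).inv_mem hxT) (hDT hd)) hxT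
  obtain ⟨C, hC⟩ : ∃ C, C = U ⊓ Subgroup.centralizer (D : Set S) := ⟨_, rfl⟩
  have hCU : C ≤ U := by rw [hC]; exact inf_le_left
  have hCcent : ∀ u ∈ C, ∀ d ∈ D, d * u = u * d := by
    intro u hu d hd
    rw [hC] at hu
    exact Subgroup.mem_centralizer_iff.mp (Subgroup.mem_inf.mp hu).2 d hd
  have hCx : ∀ u ∈ C, x * u * x⁻¹ ∈ C := by
    intro u hu
    rw [hC]
    refine Subgroup.mem_inf.mpr ⟨T_norm hU hxT (hCU hu), ?_⟩
    rw [Subgroup.mem_centralizer_iff]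
    intro d hd
    have e := hCcent u hu _ (hxD d hd)
    calc d * (x * u * x⁻¹) = x * (x⁻¹ * d * x * u) * x⁻¹ := by group
      _ = x * (u * (x⁻¹ * d * x)) * x⁻¹ := by rw [e]
      _ = x * u * x⁻¹ * d := by group
  rcases dich hx C (hCU.trans hU) hCx with hA | hB
  · right
    obtain ⟨L, hL⟩ : ∃ L, L = Subgroup.closure ({x} ∪ (D : Set S)) := ⟨_, rfl⟩
    have hxL : x ∈ L := by rw [hL]; exact Subgroup.subset_closure (Or.inl rfl)
    have hDL : D ≤ L := by rw [hL]; exact fun d hd => Subgroup.subset_closure (Or.inr hd)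
    have hodd : Odd (Nat.card L) := by
      have h0 := odd_closure p hp2 hp3 x hx3 Y hY hxY
      have hle : L ≤ Subgroup.closure ({x} ∪ (Y : Set S)) := by
        rw [hL]; exact Subgroup.closure_mono (Set.union_subset_union_right _ hDY)
      exact Odd.of_dvd_nat h0 (Subgroup.card_dvd_of_le hle)
    have hx1L : y₁ * x * y₁⁻¹ ∈ L := by
      have := L.mul_mem (hDL hc1D) hxL
      simpa [mul_assoc] using this
    have hx2L : y₂ * x * y₂⁻¹ ∈ L := by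
      have := L.mul_mem (hDL hc2D) hxL
      simpa [mul_assoc] using this
    have hUK : U ≤ Subgroup.closure {w : S | ∃ g ∈ L, ∃ m ∈ M, w = g * m * g⁻¹ * m⁻¹} := by
      rw [hUdef]
      refine sup_le (sup_le ?_ ?_) ?_
      · intro w hw
        obtain ⟨v, hv, rfl⟩ := surj hM hx hw
        exact Subgroup.subset_closure ⟨x, hxL, v, hx.le hv, rfl⟩
      · intro w hw
        obtain ⟨v, hv, rfl⟩ := surj hM h1 hw
        exact Subgroup.subset_closure ⟨_, hx1L, v, h1.le hv, rfl⟩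
      · intro w hw
        obtain ⟨v, hv, rfl⟩ := surj hM h2 hw
        exact Subgroup.subset_closure ⟨_, hx2L, v, h2.le hv, rfl⟩
    have hC1 : ∀ u ∈ C, u = 1 := by
      intro u hu
      refine hCop S M hM L hodd u (hU (hCU hu)) ?_ (hUK (hCU hu))
      have hLle : L ≤ Subgroup.centralizer {u} := by
        rw [hL, Subgroup.closure_le]
        rintro g (hg | hg)
        · rw [Set.mem_singleton_iff.mp hg]
          show x ∈ Subgroup.centralizer {u}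
          rw [Subgroup.mem_centralizer_iff]
          intro h hh
          rw [Set.mem_singleton_iff.mp hh]
          have := hA u hu
          exact (eq_mul_of_mul_inv_eq this).symm
        · show g ∈ Subgroup.centralizer {u}
          rw [Subgroup.mem_centralizer_iff]
          intro h hh
          rw [Set.mem_singleton_iff.mp hh]
          exact (hCcent u hu g hg).symm
      intro g hg
      have := Subgroup.mem_centralizer_iff.mp (hLle hg) u rfl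
      rw [← this]; group
    have hCbot : Nat.card C = 1 := by
      rw [Subgroup.card_eq_one, Subgroup.eq_bot_iff_forall]; exact hC1
    have := fp p D U hDp hDU
    rw [← hC, hCbot] at this
    exact this
  · left
    constructor
    · refine (refl_eq hM hx h1 ?_).symm
      intro w hw
      have e := hCcent _ (hB (conj_mem hx hw)) _ hc1D
      calc (y₁ * x * y₁⁻¹) * w * (y₁ * x * y₁⁻¹)⁻¹
          = (y₁ * x * y₁⁻¹ * x⁻¹) * (x * w * x⁻¹) * (y₁ * x * y₁⁻¹ * x⁻¹)⁻¹ := by group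
        _ = (x * w * x⁻¹) * (y₁ * x * y₁⁻¹ * x⁻¹) * (y₁ * x * y₁⁻¹ * x⁻¹)⁻¹ := by rw [e]
        _ = x * w * x⁻¹ := by group
    · refine (refl_eq hM hx h2 ?_).symm
      intro w hw
      have e := hCcent _ (hB (conj_mem hx hw)) _ hc2D
      calc (y₂ * x * y₂⁻¹) * w * (y₂ * x * y₂⁻¹)⁻¹
          = (y₂ * x * y₂⁻¹ * x⁻¹) * (x * w * x⁻¹) * (y₂ * x * y₂⁻¹ * x⁻¹)⁻¹ := by group
        _ = (x * w * x⁻¹) * (y₂ * x * y₂⁻¹ * x⁻¹) * (y₂ * x * y₂⁻¹ * x⁻¹)⁻¹ := by rw [e]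
        _ = x * w * x⁻¹ := by group

end Cfsg.Agent.Lib.Helper79.TLCore
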