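import Mathlib
import Cfsg.Agent.Lib.Helper39.TLStmt
import Cfsg.Agent.Lib.Helper79.TLCore

set_option autoImplicit false
set_option linter.unusedVariables false
set_option linter.style.haveILetI false

/-!
# S4404, piece PW5 (helper79)
-/

namespace Cfsg.Agent.Lib.Helper79.TLPW5

open Cfsg Cfsg.Agent.Lib.Helper39.TLStmt Cfsg.Agent.Lib.Helper79.TLCore

universe u

theorem five_le {p : ℕ} (hp : p.Prime) (hp2 : p ≠ 2) (hp3 : p ≠ 3) : 5 ≤ p := by
  by_contra h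
  push_neg at h
  interval_cases p
  · exact absurd hp (by norm_num)
  · exact absurd hp (by norm_num)
  · exact hp2 rfl
  · exact hp3 rfl
  · exact absurd hp (by norm_num)

theorem arith5 {p n : ℕ} (hp : p.Prime) (hp5 : 5 ≤ p) (hp7 : p ≠ 7) (h1 : 4 ≤ 2 ^ n)
    (h2 : 2 ^ n ≤ 16) (h3 : 2 ^ n ≡ 1 [MOD p]) : p = 5 ∧ 2 ^ n = 16 := by
  have hn : n ≤ 4 := by
    by_contra hcon
    push_neg at hcon
    have := Nat.pow_le_pow_right (show 0 < 2 by norm_num) (Nat.succ_le_of_lt hcon)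
    norm_num at this
    omega
  have hdvd : p ∣ 2 ^ n - 1 := (Nat.modEq_iff_dvd' Nat.one_le_two_pow).mp h3.symm
  interval_cases n
  · norm_num at h1
  · norm_num at h1
  · have := Nat.le_of_dvd (by norm_num) hdvd
    norm_num at this
    omega
  · have h7 : p ∣ 7 := by simpa using hdvd
    have := (Nat.prime_dvd_prime_iff_eq hp (by norm_num)).mp h7
    exact absurd this hp7
  · have h15 : p ∣ 3 * 5 := by simpa using hdvd
    rcases (Nat.Prime.dvd_mul hp).mp h15 with h | h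
    · have := Nat.le_of_dvd (by norm_num) h
      omega
    · have := Nat.le_of_dvd (by norm_num) h
      exact ⟨by omega, by norm_num⟩

theorem pow16 {n : ℕ} (h1 : 2 ^ n ≠ 1) (h2 : 2 ^ n ≤ 16) (h3 : 16 ≡ 2 ^ n [MOD 5]) :
    2 ^ n = 16 := by
  have hn : n ≤ 4 := by
    by_contra hcon
    push_neg at hcon
    have := Nat.pow_le_pow_right (show 0 < 2 by norm_num) (Nat.succ_le_of_lt hcon)
    norm_num at this
    omega
  interval_cases n <;> simp_all [Nat.ModEq]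

theorem pow5 {j : ℕ} (h1 : 1 < 5 ^ j) (h2 : 5 ^ j < 16) : 5 ^ j = 5 := by
  have hj : j ≤ 1 := by
    by_contra hcon
    push_neg at hcon
    have := Nat.pow_le_pow_right (show 0 < 5 by norm_num) (Nat.succ_le_of_lt hcon)
    norm_num at this
    omega
  interval_cases j
  · norm_num at h1
  · norm_num

variable {S : Type u} [Group S]

/-- the case `p = 5` -/
theorem case5 [Finite S] (hConj : Conj.{u}) {M : Subgroup S} [M.Normal]
    (hM : IsElementaryAbelian 2 M) (Y Q : Subgroup S) (hY : IsPGroup 5 Y) (hQ : IsPGroup 3 Q)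
    (x : S) (W : Subgroup S) (hxQ : x ∈ Q) (hx : IsRefl M x W)
    (hxY : ∀ y ∈ Y, x * y * x⁻¹ ∈ Y) (y : S) (hy : y ∈ Y)
    (h16 : Nat.card ↥(W ⊔ W.map (MulAut.conj y).toMonoidHom) = 16) :
    W.map (MulAut.conj y).toMonoidHom = W := by
  by_contra hne
  have h5 : Fact (Nat.Prime 5) := ⟨by norm_num⟩
  have h3 : Fact (Nat.Prime 3) := ⟨by norm_num⟩
  have h1 : IsRefl M (y * x * y⁻¹) (W.map (MulAut.conj y).toMonoidHom) := hConj S M x W y hx
  obtain ⟨W₁, hW₁⟩ : ∃ W₁, W₁ = W.map (MulAut.conj y).toMonoidHom := ⟨_, rfl⟩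
  rw [← hW₁] at h1 h16 hne
  have hU : W ⊔ W₁ ≤ M := sup_le hx.le h1.le
  obtain ⟨U, hUdef⟩ : ∃ U, U = W ⊔ W₁ := ⟨_, rfl⟩
  rw [← hUdef] at hU h16
  have hWU : W ≤ U := by rw [hUdef]; exact le_sup_left
  have hW₁U : W₁ ≤ U := by rw [hUdef]; exact le_sup_right
  have hxT : x ∈ T M U hU := fun m hm => hWU (hx.comm m hm)
  have hx1T : y * x * y⁻¹ ∈ T M U hU := fun m hm => hW₁U (h1.comm m hm)
  have hcY : y * x * y⁻¹ * x⁻¹ ∈ Y := by
    have := Y.mul_mem hy (hxY _ (Y.inv_mem hy))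
    simpa [mul_assoc] using this
  obtain ⟨D, hD⟩ : ∃ D, D = Y ⊓ T M U hU := ⟨_, rfl⟩
  have hDY : D ≤ Y := by rw [hD]; exact inf_le_left
  have hDT : D ≤ T M U hU := by rw [hD]; exact inf_le_right
  have hcD : y * x * y⁻¹ * x⁻¹ ∈ D := by
    rw [hD]
    exact Subgroup.mem_inf.mpr ⟨hcY, (T M U hU).mul_mem hx1T ((T M U hU).inv_mem hxT)⟩
  have hDp : IsPGroup 5 D := hY.to_le hDY
  have hDU : ∀ d ∈ D, ∀ u ∈ U, d * u * d⁻¹ ∈ U := fun d hd u hu => T_norm hU (hDT hd) hu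
  have hxD : ∀ d ∈ D, x * d * x⁻¹ ∈ D := by
    intro d hd
    rw [hD]
    refine Subgroup.mem_inf.mpr ⟨hxY d (hDY hd), ?_⟩
    exact (T M U hU).mul_mem ((T M U hU).mul_mem hxT (hDT hd)) ((T M U hU).inv_mem hxT)
  -- semiregularity
  have hsemi : ∀ d ∈ D, ∀ u ∈ U, u ≠ 1 → d * u = u * d →
      d ∈ Subgroup.centralizer (U : Set S) := by
    intro d hd u hu hu1 hdu
    have hZD : Subgroup.zpowers d ≤ D := Subgroup.zpowers_le.mpr hd
    have hnorm : ∀ g ∈ Subgroup.zpowers d, ∀ v ∈ U, g * v * g⁻¹ ∈ U :=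
      fun g hg v hv => hDU g (hZD hg) v hv
    have hfp := fp 5 (Subgroup.zpowers d) U (hDp.to_le hZD) hnorm
    rw [h16] at hfp
    obtain ⟨Zd, hZd⟩ : ∃ Zd, Zd = Subgroup.centralizer ((Subgroup.zpowers d : Subgroup S) : Set S) :=
      ⟨_, rfl⟩
    rw [← hZd] at hfp
    have humem : u ∈ U ⊓ Zd := by
      refine Subgroup.mem_inf.mpr ⟨hu, ?_⟩
      rw [hZd, Subgroup.mem_centralizer_iff]
      intro g hg
      obtain ⟨i, rfl⟩ := Subgroup.mem_zpowers_iff.mp hg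
      have hc : Commute d u := hdu
      exact hc.zpow_left i
    obtain ⟨n, hn⟩ := card_pow_two hM ((inf_le_left : U ⊓ Zd ≤ U).trans hU)
    have hle : Nat.card ↥(U ⊓ Zd) ≤ 16 := by
      rw [← h16]; exact Subgroup.card_le_of_le inf_le_left
    have hne1 : Nat.card ↥(U ⊓ Zd) ≠ 1 := by
      intro h
      rw [Subgroup.card_eq_one] at h
      rw [h, Subgroup.mem_bot] at humem
      exact hu1 humem
    have h16' : Nat.card ↥(U ⊓ Zd) = 16 := by
      rw [hn] at hfp hle hne1 ⊢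
      exact pow16 hne1 hle hfp
    have hUc : U ≤ Zd := by
      have : U ⊓ Zd = U := Subgroup.eq_of_le_of_card_ge inf_le_left (by rw [h16, h16'])
      exact inf_eq_left.mp this
    rw [hZd] at hUc
    exact Subgroup.le_centralizer_iff.mp hUc (Subgroup.mem_zpowers d)
  obtain ⟨D₁, hD₁⟩ : ∃ D₁, D₁ = D ⊓ Subgroup.centralizer (U : Set S) := ⟨_, rfl⟩
  have hD₁D : D₁ ≤ D := by rw [hD₁]; exact inf_le_left
  have hcD₁ : y * x * y⁻¹ * x⁻¹ ∉ D₁ := by
    intro hc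
    rw [hD₁] at hc
    have hcc := Subgroup.mem_centralizer_iff.mp (Subgroup.mem_inf.mp hc).2
    apply hne
    refine (refl_eq hM hx h1 ?_).symm
    intro w hw
    have e := hcc _ (hWU (conj_mem hx hw))
    calc (y * x * y⁻¹) * w * (y * x * y⁻¹)⁻¹
        = (y * x * y⁻¹ * x⁻¹) * (x * w * x⁻¹) * (y * x * y⁻¹ * x⁻¹)⁻¹ := by group
      _ = (x * w * x⁻¹) * (y * x * y⁻¹ * x⁻¹) * (y * x * y⁻¹ * x⁻¹)⁻¹ := by rw [← e]
      _ = x * w * x⁻¹ := by group
  obtain ⟨w₀, hw₀, hw₀1⟩ : ∃ w₀ ∈ W, w₀ ≠ 1 := by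
    have : W ≠ ⊥ := by
      intro h
      have := hx.card
      rw [h] at this
      simp at this
    obtain ⟨a, ha⟩ := (Subgroup.ne_bot_iff_exists_ne_one).mp this
    exact ⟨a.1, a.2, fun h => ha (Subtype.ext h)⟩
  let _inst := conjAct D U hDU
  obtain ⟨b₀, hb₀⟩ : ∃ b₀ : U, b₀ = ⟨w₀, hWU hw₀⟩ := ⟨_, rfl⟩
  have hos : Nat.card (MulAction.orbit D b₀) * Nat.card (MulAction.stabilizer D b₀) =
      Nat.card D := by
    classical
    have := Fintype.ofFinite D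
    have := Fintype.ofFinite (MulAction.orbit D b₀)
    have := Fintype.ofFinite (MulAction.stabilizer D b₀)
    rw [Nat.card_eq_fintype_card, Nat.card_eq_fintype_card, Nat.card_eq_fintype_card]
    exact MulAction.card_orbit_mul_card_stabilizer_eq_card_group D b₀
  have hstab : (MulAction.stabilizer D b₀).map D.subtype = D₁ := by
    apply le_antisymm
    · rintro _ ⟨d, hd, rfl⟩
      have h1' : d • b₀ = b₀ := hd
      have h2' : d.1 * w₀ * d.1⁻¹ = w₀ := by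
        have := congrArg Subtype.val h1'
        rw [hb₀] at this
        exact this
      rw [hD₁]
      exact Subgroup.mem_inf.mpr
        ⟨d.2, hsemi d.1 d.2 w₀ (hWU hw₀) hw₀1 (eq_mul_of_mul_inv_eq h2')⟩
    · intro d hd
      rw [hD₁] at hd
      have hdD := (Subgroup.mem_inf.mp hd).1
      have hdc := Subgroup.mem_centralizer_iff.mp (Subgroup.mem_inf.mp hd).2 w₀ (hWU hw₀)
      refine ⟨⟨d, hdD⟩, ?_, rfl⟩
      show (⟨d, hdD⟩ : D) • b₀ = b₀
      apply Subtype.ext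
      rw [hb₀]
      show d * w₀ * d⁻¹ = w₀
      rw [← hdc]; group
  have hcardstab : Nat.card (MulAction.stabilizer D b₀) = Nat.card D₁ := by
    rw [← hstab]; exact (Subgroup.card_subtype _ _).symm
  obtain ⟨j, hj⟩ := hDp.card_orbit b₀
  have hlt : Nat.card (MulAction.orbit D b₀) < 16 := by
    rw [← h16]
    classical
    have := Fintype.ofFinite U
    have := Fintype.ofFinite (MulAction.orbit D b₀)
    rw [Nat.card_eq_fintype_card, Nat.card_eq_fintype_card]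
    apply Fintype.card_lt_of_injective_of_notMem (fun o : MulAction.orbit D b₀ => o.1)
      Subtype.val_injective (b := (1 : U))
    rintro ⟨⟨o, ho⟩, ho1⟩
    obtain ⟨d, hd⟩ := MulAction.mem_orbit_iff.mp ho
    have h1' : d • b₀ = (1 : U) := by rw [hd]; exact ho1
    have h2' : d.1 * w₀ * d.1⁻¹ = 1 := by
      have := congrArg Subtype.val h1'
      rw [hb₀] at this
      exact this
    exact hw₀1 (conj_eq_one_iff.mp h2')
  have hnt : 1 < Nat.card (MulAction.orbit D b₀) := by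
    rw [Finite.one_lt_card_iff_nontrivial]
    refine ⟨⟨b₀, MulAction.mem_orbit_self b₀⟩,
      ⟨(⟨_, hcD⟩ : D) • b₀, MulAction.mem_orbit b₀ _⟩, ?_⟩
    intro h
    have h1' : (⟨_, hcD⟩ : D) • b₀ = b₀ := (congrArg Subtype.val h).symm
    have h2' : (y * x * y⁻¹ * x⁻¹) * w₀ * (y * x * y⁻¹ * x⁻¹)⁻¹ = w₀ := by
      have := congrArg Subtype.val h1'
      rw [hb₀] at this
      exact this
    apply hcD₁
    rw [hD₁]
    exact Subgroup.mem_inf.mpr
      ⟨hcD, hsemi _ hcD w₀ (hWU hw₀) hw₀1 (eq_mul_of_mul_inv_eq h2')⟩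
  have horb5 : Nat.card (MulAction.orbit D b₀) = 5 := by
    rw [hj] at hlt hnt ⊢
    exact pow5 hnt hlt
  have hcardD : Nat.card D = 5 * Nat.card D₁ := by rw [← hos, horb5, hcardstab]
  -- the action of x on D and D₁
  have hZx3 : IsPGroup 3 (Subgroup.zpowers x) := hQ.to_le (Subgroup.zpowers_le.mpr hxQ)
  have hZxD : ∀ g ∈ Subgroup.zpowers x, ∀ d ∈ D, g * d * g⁻¹ ∈ D := by
    intro g hg d hd
    obtain ⟨i, rfl⟩ := Subgroup.mem_zpowers_iff.mp hg
    exact zpow_norm hxD i d hd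
  have hxD₁ : ∀ d ∈ D₁, x * d * x⁻¹ ∈ D₁ := by
    intro d hd
    rw [hD₁] at hd ⊢
    have hdD := (Subgroup.mem_inf.mp hd).1
    have hdc := Subgroup.mem_centralizer_iff.mp (Subgroup.mem_inf.mp hd).2
    refine Subgroup.mem_inf.mpr ⟨hxD d hdD, ?_⟩
    rw [Subgroup.mem_centralizer_iff]
    intro u hu
    have hu' : x⁻¹ * u * x ∈ U := by
      have := T_norm hU ((T M U hU).inv_mem hxT) hu
      simpa using this
    have e := hdc _ hu'
    calc u * (x * d * x⁻¹) = x * ((x⁻¹ * u * x) * d) * x⁻¹ := by group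
      _ = x * (d * (x⁻¹ * u * x)) * x⁻¹ := by rw [e]
      _ = x * d * x⁻¹ * u := by group
  have hZxD₁ : ∀ g ∈ Subgroup.zpowers x, ∀ d ∈ D₁, g * d * g⁻¹ ∈ D₁ := by
    intro g hg d hd
    obtain ⟨i, rfl⟩ := Subgroup.mem_zpowers_iff.mp hg
    exact zpow_norm hxD₁ i d hd
  have fpD := fp 3 (Subgroup.zpowers x) D hZx3 hZxD
  have fpD₁ := fp 3 (Subgroup.zpowers x) D₁ hZx3 hZxD₁
  obtain ⟨Zx, hZx⟩ : ∃ Zx, Zx = Subgroup.centralizer ((Subgroup.zpowers x : Subgroup S) : Set S) :=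
    ⟨_, rfl⟩
  rw [← hZx] at fpD fpD₁
  have hex : ∃ d ∈ D ⊓ Zx, d ∉ D₁ := by
    by_contra hcon
    push_neg at hcon
    have heq : D ⊓ Zx = D₁ ⊓ Zx :=
      le_antisymm (le_inf hcon inf_le_right) (inf_le_inf_right _ hD₁D)
    rw [heq] at fpD
    have hmod : Nat.card D ≡ Nat.card D₁ [MOD 3] := fpD.trans fpD₁.symm
    rw [hcardD] at hmod
    obtain ⟨i, hi⟩ := IsPGroup.iff_card.mp (hDp.to_le hD₁D)
    have h0 : Nat.card D₁ % 3 = 0 := by
      have : 5 * Nat.card D₁ % 3 = Nat.card D₁ % 3 := hmod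
      omega
    rw [hi] at h0
    have h3dvd : 3 ∣ 5 ^ i := Nat.dvd_of_mod_eq_zero h0
    have := Nat.Prime.dvd_of_dvd_pow Nat.prime_three h3dvd
    norm_num at this
  obtain ⟨d, hd, hdD₁⟩ := hex
  have hdD : d ∈ D := (Subgroup.mem_inf.mp hd).1
  have hdx : d * x = x * d := by
    rw [hZx] at hd
    exact (Subgroup.mem_centralizer_iff.mp (Subgroup.mem_inf.mp hd).2 x
      (Subgroup.mem_zpowers x)).symm
  have hdW : ∀ w ∈ W, d * w * d⁻¹ ∈ W := by
    intro w hw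
    obtain ⟨v, hv, rfl⟩ := surj hM hx hw
    have hv' : d * v * d⁻¹ ∈ M := hU (hDU d hdD v (hWU hv))
    have := hx.comm _ hv'
    have e : d * (x * v * x⁻¹ * v⁻¹) * d⁻¹ = x * (d * v * d⁻¹) * x⁻¹ * (d * v * d⁻¹)⁻¹ := by
      calc d * (x * v * x⁻¹ * v⁻¹) * d⁻¹
          = (d * x) * v * (d * x)⁻¹ * (d * v⁻¹ * d⁻¹) := by group
        _ = (x * d) * v * (x * d)⁻¹ * (d * v⁻¹ * d⁻¹) := by rw [hdx]
        _ = x * (d * v * d⁻¹) * x⁻¹ * (d * v * d⁻¹)⁻¹ := by group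
    rw [e]; exact this
  have hZdD : Subgroup.zpowers d ≤ D := Subgroup.zpowers_le.mpr hdD
  have hnormW : ∀ g ∈ Subgroup.zpowers d, ∀ w ∈ W, g * w * g⁻¹ ∈ W := by
    intro g hg w hw
    obtain ⟨i, rfl⟩ := Subgroup.mem_zpowers_iff.mp hg
    exact zpow_norm hdW i w hw
  have hfpW := fp 5 (Subgroup.zpowers d) W (hDp.to_le hZdD) hnormW
  rw [hx.card] at hfpW
  obtain ⟨Zd, hZd⟩ : ∃ Zd, Zd = Subgroup.centralizer ((Subgroup.zpowers d : Subgroup S) : Set S) :=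
    ⟨_, rfl⟩
  rw [← hZd] at hfpW
  have hdvd : Nat.card ↥(W ⊓ Zd) ∣ 4 := by
    rw [← hx.card]; exact Subgroup.card_dvd_of_le inf_le_left
  have hle : Nat.card ↥(W ⊓ Zd) ≤ 4 := Nat.le_of_dvd (by norm_num) hdvd
  have h4 : Nat.card ↥(W ⊓ Zd) = 4 := by
    have : 4 % 5 = Nat.card ↥(W ⊓ Zd) % 5 := hfpW
    omega
  have hWZ : W ≤ Zd := by
    have : W ⊓ Zd = W := Subgroup.eq_of_le_of_card_ge inf_le_left (by rw [hx.card, h4])
    exact inf_eq_left.mp this
  have hdw₀ : d * w₀ = w₀ * d := by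
    have := hWZ hw₀
    rw [hZd] at this
    exact Subgroup.mem_centralizer_iff.mp this d (Subgroup.mem_zpowers d)
  apply hdD₁
  rw [hD₁]
  exact Subgroup.mem_inf.mpr ⟨hdD, hsemi d hdD w₀ (hWU hw₀) hw₀1 hdw₀⟩

theorem main (hCop : Cop.{u}) (hConj : Conj.{u}) : PW5.{u} := by
  intro S _ _ M _ hM p hp hp2 hp3 hp7 Y Q hY hQ x W hxQ hx hxY
  have hpf : Fact p.Prime := ⟨hp⟩
  have hp5 := five_le hp hp2 hp3
  have hx3 : ∃ k : ℕ, x ^ 3 ^ k = 1 := by
    obtain ⟨k, hk⟩ := hQ ⟨x, hxQ⟩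
    exact ⟨k, by simpa using congrArg Subtype.val hk⟩
  have hrefl : ∀ y : S, IsRefl M (y * x * y⁻¹) (W.map (MulAut.conj y).toMonoidHom) :=
    fun y => hConj S M x W y hx
  have hall : ∀ y ∈ Y, W.map (MulAut.conj y).toMonoidHom = W := by
    intro y hy
    rcases lemmaG hCop hConj hM p hp2 hp3 Y hY x W hx3 hx hxY y y hy hy with h | h
    · exact h.1
    · rw [sup_assoc, sup_idem] at h
      obtain ⟨n, hn⟩ := card_pow_two hM (sup_le hx.le (hrefl y).le)
      have hle := card_sup_le' hM hx.le (hrefl y).le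
      rw [hx.card, (hrefl y).card] at hle
      have hge : Nat.card W ≤ Nat.card ↥(W ⊔ W.map (MulAut.conj y).toMonoidHom) :=
        Subgroup.card_le_of_le le_sup_left
      rw [hx.card] at hge
      have hh := h
      rw [hn] at hh hle hge
      obtain ⟨hp5', h16⟩ := arith5 hp hp5 hp7 hge (by omega) hh
      subst hp5'
      rw [← hn] at h16
      exact case5 hConj hM Y Q hY hQ x W hxQ hx hxY y hy h16
  have hYW : ∀ y ∈ Y, ∀ w ∈ W, y * w * y⁻¹ ∈ W := by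
    intro y hy w hw
    have : (MulAut.conj y).toMonoidHom w ∈ W.map (MulAut.conj y).toMonoidHom :=
      Subgroup.mem_map_of_mem _ hw
    rw [hall y hy] at this
    simpa using this
  have hfp := fp p Y W hY hYW
  rw [hx.card] at hfp
  have hdvd : Nat.card ↥(W ⊓ Subgroup.centralizer (Y : Set S)) ∣ 4 := by
    rw [← hx.card]; exact Subgroup.card_dvd_of_le inf_le_left
  have hle : Nat.card ↥(W ⊓ Subgroup.centralizer (Y : Set S)) ≤ 4 :=
    Nat.le_of_dvd (by norm_num) hdvd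
  have h4 : Nat.card ↥(W ⊓ Subgroup.centralizer (Y : Set S)) = 4 := by
    have e0 : 4 % p = Nat.card ↥(W ⊓ Subgroup.centralizer (Y : Set S)) % p := hfp
    have e1 : 4 % p = 4 := Nat.mod_eq_of_lt (by omega)
    have e2 : Nat.card ↥(W ⊓ Subgroup.centralizer (Y : Set S)) % p =
        Nat.card ↥(W ⊓ Subgroup.centralizer (Y : Set S)) := Nat.mod_eq_of_lt (by omega)
    rw [e1, e2] at e0
    exact e0.symm
  have hWc : W ≤ Subgroup.centralizer (Y : Set S) := by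
    have : W ⊓ Subgroup.centralizer (Y : Set S) = W :=
      Subgroup.eq_of_le_of_card_ge inf_le_left (by rw [hx.card, h4])
    exact inf_eq_left.mp this
  exact Subgroup.le_centralizer_iff.mp hWc

end Cfsg.Agent.Lib.Helper79.TLPW5
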