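import Mathlib
import Cfsg.Agent.Lib.Helper39.TLStmt
import Cfsg.Agent.Lib.Helper79.TLCore

set_option autoImplicit false
set_option linter.unusedVariables false
set_option linter.style.haveILetI false

/-!
# S4404, piece PW7 (helper79)
-/

namespace Cfsg.Agent.Lib.Helper79.TLPW7

open Cfsg Cfsg.Agent.Lib.Helper39.TLStmt Cfsg.Agent.Lib.Helper79.TLCore

universe u

theorem pow7 {n : ℕ} (h1 : 4 ≤ 2 ^ n) (h2 : 2 ^ n ≤ 32) (h3 : 2 ^ n ≡ 1 [MOD 7]) :
    2 ^ n = 8 := by
  have hn : n ≤ 5 := by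
    by_contra hcon
    push_neg at hcon
    have := Nat.pow_le_pow_right (show 0 < 2 by norm_num) (Nat.succ_le_of_lt hcon)
    norm_num at this
    omega
  interval_cases n <;> simp_all [Nat.ModEq]

theorem pow8 {n : ℕ} (h1 : 2 ^ n ≠ 1) (h2 : 2 ^ n ≤ 8) (h3 : 8 ≡ 2 ^ n [MOD 7]) :
    2 ^ n = 8 := by
  have hn3 : n ≤ 3 := by
    by_contra hcon
    push_neg at hcon
    have := Nat.pow_le_pow_right (show 0 < 2 by norm_num) (Nat.succ_le_of_lt hcon)
    norm_num at this
    omega
  interval_cases n <;> simp_all [Nat.ModEq]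

theorem main (hCop : Cop.{u}) (hConj : Conj.{u}) : PW7.{u} := by
  intro S _ _ M _ hM Y Q hY hQ x W hxQ hx hxY
  have h7 : Fact (Nat.Prime 7) := ⟨by norm_num⟩
  have hx3 : ∃ k : ℕ, x ^ 3 ^ k = 1 := by
    obtain ⟨k, hk⟩ := hQ ⟨x, hxQ⟩
    exact ⟨k, by simpa using congrArg Subtype.val hk⟩
  have hG := fun (y₁ : S) (hy₁ : y₁ ∈ Y) (y₂ : S) (hy₂ : y₂ ∈ Y) =>
    lemmaG hCop hConj hM 7 (by norm_num) (by norm_num) Y hY x W hx3 hx hxY y₁ y₂ hy₁ hy₂
  have hrefl : ∀ y : S, IsRefl M (y * x * y⁻¹) (W.map (MulAut.conj y).toMonoidHom) :=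
    fun y => hConj S M x W y hx
  have ha : ∀ y ∈ Y, W.map (MulAut.conj y).toMonoidHom = W ∨
      Nat.card ↥(W ⊔ W.map (MulAut.conj y).toMonoidHom) = 8 := by
    intro y hy
    rcases hG y hy y hy with h | h
    · exact Or.inl h.1
    · right
      rw [sup_assoc, sup_idem] at h
      obtain ⟨n, hn⟩ := card_pow_two hM (sup_le hx.le (hrefl y).le)
      have hle := card_sup_le' hM hx.le (hrefl y).le
      rw [hx.card, (hrefl y).card] at hle
      have hge : Nat.card W ≤ Nat.card ↥(W ⊔ W.map (MulAut.conj y).toMonoidHom) :=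
        Subgroup.card_le_of_le le_sup_left
      rw [hx.card] at hge
      rw [hn] at h hle hge ⊢
      exact pow7 hge (by omega) h
  by_cases hall : ∀ y ∈ Y, W.map (MulAut.conj y).toMonoidHom = W
  · have hYW : ∀ y ∈ Y, ∀ w ∈ W, y * w * y⁻¹ ∈ W := by
      intro y hy w hw
      have : (MulAut.conj y).toMonoidHom w ∈ W.map (MulAut.conj y).toMonoidHom :=
        Subgroup.mem_map_of_mem _ hw
      rw [hall y hy] at this
      simpa using this
    have hfp := fp 7 Y W hY hYW
    rw [hx.card] at hfp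
    have hdvd : Nat.card ↥(W ⊓ Subgroup.centralizer (Y : Set S)) ∣ 4 := by
      rw [← hx.card]; exact Subgroup.card_dvd_of_le inf_le_left
    have hle : Nat.card ↥(W ⊓ Subgroup.centralizer (Y : Set S)) ≤ 4 :=
      Nat.le_of_dvd (by norm_num) hdvd
    have h4 : Nat.card ↥(W ⊓ Subgroup.centralizer (Y : Set S)) = 4 := by
      have : 4 % 7 = Nat.card ↥(W ⊓ Subgroup.centralizer (Y : Set S)) % 7 := hfp
      omega
    have hWc : W ≤ Subgroup.centralizer (Y : Set S) := by
      have : W ⊓ Subgroup.centralizer (Y : Set S) = W :=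
        Subgroup.eq_of_le_of_card_ge inf_le_left (by rw [hx.card, h4])
      exact inf_eq_left.mp this
    have hYc : Y ≤ Subgroup.centralizer (W : Set S) := Subgroup.le_centralizer_iff.mp hWc
    rw [inf_eq_left.mpr hYc]
    omega
  · push_neg at hall
    obtain ⟨y₁, hy₁, hne⟩ := hall
    have hB8 : Nat.card ↥(W ⊔ W.map (MulAut.conj y₁).toMonoidHom) = 8 :=
      (ha y₁ hy₁).resolve_left hne
    obtain ⟨B, hB⟩ : ∃ B, B = W ⊔ W.map (MulAut.conj y₁).toMonoidHom := ⟨_, rfl⟩
    rw [← hB] at hB8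
    have hBM : B ≤ M := by rw [hB]; exact sup_le hx.le (hrefl y₁).le
    have hWB : W ≤ B := by rw [hB]; exact le_sup_left
    have hc : ∀ y ∈ Y, W.map (MulAut.conj y).toMonoidHom ≤ B := by
      intro y hy
      rcases hG y₁ hy₁ y hy with h | h
      · exact absurd h.1 hne
      · rw [← hB] at h
        obtain ⟨n, hn⟩ := card_pow_two hM (sup_le hBM (hrefl y).le)
        have hle := card_sup_le' hM hBM (hrefl y).le
        rw [hB8, (hrefl y).card] at hle
        have hge : Nat.card B ≤ Nat.card ↥(B ⊔ W.map (MulAut.conj y).toMonoidHom) :=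
          Subgroup.card_le_of_le le_sup_left
        rw [hB8] at hge
        rw [hn] at h hle hge
        have h8 := pow7 (by omega) (by omega) h
        have : B = B ⊔ W.map (MulAut.conj y).toMonoidHom :=
          Subgroup.eq_of_le_of_card_ge le_sup_left (by rw [hn, h8, hB8])
        rw [this]; exact le_sup_right
    have hYB : ∀ y ∈ Y, ∀ b ∈ B, y * b * y⁻¹ ∈ B := by
      intro y hy b hb
      have hmap : B.map (MulAut.conj y).toMonoidHom ≤ B := by
        have e : B.map (MulAut.conj y).toMonoidHom =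
            W.map (MulAut.conj y).toMonoidHom ⊔
              (W.map (MulAut.conj y₁).toMonoidHom).map (MulAut.conj y).toMonoidHom := by
          rw [hB, Subgroup.map_sup]
        rw [e]
        refine sup_le (hc y hy) ?_
        rintro _ ⟨_, ⟨w, hw, rfl⟩, rfl⟩
        refine hc (y * y₁) (Y.mul_mem hy hy₁) ⟨w, hw, ?_⟩
        simp [mul_assoc]
      have := hmap (Subgroup.mem_map_of_mem _ hb)
      simpa using this
    obtain ⟨w₀, hw₀, hw₀1⟩ : ∃ w₀ ∈ W, w₀ ≠ 1 := by
      have : W ≠ ⊥ := by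
        intro h
        have := hx.card
        rw [h] at this
        simp at this
      obtain ⟨a, ha⟩ := (Subgroup.ne_bot_iff_exists_ne_one).mp this
      exact ⟨a.1, a.2, fun h => ha (Subtype.ext h)⟩
    let _inst := conjAct Y B hYB
    obtain ⟨b₀, hb₀⟩ : ∃ b₀ : B, b₀ = ⟨w₀, hWB hw₀⟩ := ⟨_, rfl⟩
    have hos : Nat.card (MulAction.orbit Y b₀) * Nat.card (MulAction.stabilizer Y b₀) =
        Nat.card Y := by
      classical
      have := Fintype.ofFinite Y
      have := Fintype.ofFinite (MulAction.orbit Y b₀)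
      have := Fintype.ofFinite (MulAction.stabilizer Y b₀)
      rw [Nat.card_eq_fintype_card, Nat.card_eq_fintype_card, Nat.card_eq_fintype_card]
      exact MulAction.card_orbit_mul_card_stabilizer_eq_card_group Y b₀
    have horb : Nat.card (MulAction.orbit Y b₀) ≤ 7 := by
      have hlt : Nat.card (MulAction.orbit Y b₀) < Nat.card B := by
        classical
        have := Fintype.ofFinite B
        have := Fintype.ofFinite (MulAction.orbit Y b₀)
        rw [Nat.card_eq_fintype_card, Nat.card_eq_fintype_card]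
        apply Fintype.card_lt_of_injective_of_notMem (fun o : MulAction.orbit Y b₀ => o.1)
          Subtype.val_injective (b := (1 : B))
        rintro ⟨⟨o, ho⟩, ho1⟩
        obtain ⟨y, hy⟩ := MulAction.mem_orbit_iff.mp ho
        have h1 : y • b₀ = (1 : B) := by rw [hy]; exact ho1
        have h2 : y.1 * w₀ * y.1⁻¹ = 1 := by
          have := congrArg Subtype.val h1
          rw [hb₀] at this
          exact this
        exact hw₀1 (conj_eq_one_iff.mp h2)
      rw [hB8] at hlt
      omega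
    obtain ⟨Y₀, hY₀⟩ : ∃ Y₀ : Subgroup S, Y₀ = (MulAction.stabilizer Y b₀).map Y.subtype :=
      ⟨_, rfl⟩
    have hY₀Y : Y₀ ≤ Y := by rw [hY₀]; exact Subgroup.map_subtype_le _
    have hY₀fix : ∀ g ∈ Y₀, g * w₀ * g⁻¹ = w₀ := by
      intro g hg
      rw [hY₀] at hg
      obtain ⟨y, hy, rfl⟩ := hg
      have h1 : y • b₀ = b₀ := hy
      have := congrArg Subtype.val h1
      rw [hb₀] at this
      exact this
    have hfp := fp 7 Y₀ B (hY.to_le hY₀Y) (fun d hd b hb => hYB d (hY₀Y hd) b hb)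
    rw [hB8] at hfp
    have hw₀mem : w₀ ∈ B ⊓ Subgroup.centralizer (Y₀ : Set S) := by
      refine Subgroup.mem_inf.mpr ⟨hWB hw₀, ?_⟩
      rw [Subgroup.mem_centralizer_iff]
      intro g hg
      exact eq_mul_of_mul_inv_eq (hY₀fix g hg)
    obtain ⟨n, hn⟩ := card_pow_two hM
      ((inf_le_left : B ⊓ Subgroup.centralizer (Y₀ : Set S) ≤ B).trans hBM)
    have hle8 : Nat.card ↥(B ⊓ Subgroup.centralizer (Y₀ : Set S)) ≤ 8 := by
      rw [← hB8]; exact Subgroup.card_le_of_le inf_le_left
    have hne1 : Nat.card ↥(B ⊓ Subgroup.centralizer (Y₀ : Set S)) ≠ 1 := by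
      intro h
      rw [Subgroup.card_eq_one] at h
      rw [h, Subgroup.mem_bot] at hw₀mem
      exact hw₀1 hw₀mem
    have h8 : Nat.card ↥(B ⊓ Subgroup.centralizer (Y₀ : Set S)) = 8 := by
      rw [hn] at hfp hle8 hne1 ⊢
      exact pow8 hne1 hle8 hfp
    have hBc : B ≤ Subgroup.centralizer (Y₀ : Set S) := by
      have : B ⊓ Subgroup.centralizer (Y₀ : Set S) = B :=
        Subgroup.eq_of_le_of_card_ge inf_le_left (by rw [hB8, h8])
      exact inf_eq_left.mp this
    have hY₀c : Y₀ ≤ Y ⊓ Subgroup.centralizer (W : Set S) :=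
      le_inf hY₀Y (Subgroup.le_centralizer_iff.mp (hWB.trans hBc))
    have hcard : Nat.card (MulAction.stabilizer Y b₀) ≤
        Nat.card ↥(Y ⊓ Subgroup.centralizer (W : Set S)) := by
      have h1 : Nat.card Y₀ = Nat.card (MulAction.stabilizer Y b₀) := by
        rw [hY₀]; exact Subgroup.card_subtype _ _
      rw [← h1]; exact Subgroup.card_le_of_le hY₀c
    calc Nat.card Y
        = Nat.card (MulAction.orbit Y b₀) * Nat.card (MulAction.stabilizer Y b₀) := hos.symm
      _ ≤ 7 * Nat.card ↥(Y ⊓ Subgroup.centralizer (W : Set S)) := Nat.mul_le_mul horb hcard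

end Cfsg.Agent.Lib.Helper79.TLPW7
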